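import Cfsg.Agent.Fus.Comp89.Mono
import Cfsg.Agent.Fus.NormalEnvelope.Limit
import Cfsg.Agent.Fus.Invariant
import Cfsg.Agent.Eq.Def_FusionComponents

/-!
The step "`p`-residual, then `p'`-residual" is monotone along normal subsystems, so a perfect
subnormal subsystem is subnormal, by a chain of the same length, in a stable normal subsystem.
-/

set_option autoImplicit false

namespace CfsgLib.Comp89

open Cfsg Cfsg.FusionSystem CfsgLib.Fus CfsgLib.FusAut Cfsg.Agent.S5203
open CfsgLib.Fusion.Alperin (map_mem_of_stronglyClosed)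

variable {Ω : Type*} [Group Ω] {S T U V : Subgroup Ω} {p : ℕ}

/-- The hyperfocal subgroup lies in `K` as soon as the displacements of the automorphisms of order
prime to `p` do. -/
theorem hyperfocal_le_iff_displ (X : Cfsg.FusionSystem T) {K : Subgroup Ω}
    (h : ∀ P ≤ T, ∀ a ∈ X.autGroup P, (orderOf a).Coprime p → ∀ x : P,
      (x : Ω)⁻¹ * ((a x : P) : Ω) ∈ K) :
    X.hyperfocalSubgroup p ≤ K := by
  unfold Cfsg.FusionSystem.hyperfocalSubgroup
  rw [Subgroup.closure_le]
  rintro _ ⟨P, ⟨a, ha⟩, x, hP, hm, rfl⟩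
  let D : Subgroup (MulAut P) :=
    { carrier := {a | ∀ x : P, (x : Ω)⁻¹ * ((a x : P) : Ω) ∈ K}
      one_mem' := fun x => by rw [MulAut.one_apply, inv_mul_cancel]; exact one_mem _
      mul_mem' := fun {a b} ha hb x => by
        have h1 := mul_mem (hb x) (ha (b x))
        rw [mul_assoc, mul_inv_cancel_left] at h1
        exact h1
      inv_mem' := fun {a} ha x => by
        have h1 := inv_mem (ha (a⁻¹ x))
        rw [mul_inv_rev, inv_inv, MulAut.inv_apply, MulEquiv.apply_symm_apply] at h1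
        exact h1 }
  have hle : (Cfsg.pResidual p (X.autGroup P)).map (X.autGroup P).subtype ≤ D :=
    LocalCharP.map_pResidual_le_iff.2 fun b hb hco => h P hP b hb hco
  exact hle ⟨⟨a, ha⟩, hm, rfl⟩ x

variable [Finite U] [Fact p.Prime]

/-- The hyperfocal subgroup of an invariant subsystem is strongly closed. -/
theorem hyperfocal_closed (hU : IsPGroup p U) {Y : Cfsg.FusionSystem U} {X : Cfsg.FusionSystem T}
    (hX : X.IsWeaklyNormalIn Y p) : Y.StronglyClosed (X.hyperfocalSubgroup p) := by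
  obtain ⟨hXs, -, hinv⟩ := hX
  have hTU : T ≤ U := hinv.2.1.1
  have : Finite T := finite_of_le hTU
  set H := X.hyperfocalSubgroup p with hH
  have hHT : H ≤ T := hyperfocal_le X
  have hcl := PPowerExist.stronglyClosed_T (hU.to_le hTU) hXs hHT
    (CfsgLib.FusTate.hyperfocal_normal X p) le_rfl
  refine ⟨hHT.trans hTU, fun R hR φ hφ x => ?_⟩
  obtain ⟨a, ha, φ₀, hφ₀, he⟩ := hinv.2.2.2 R (hR.trans hHT) φ hφ
  have h0 : φ₀ x ∈ H := hcl.2 R hR φ₀ hφ₀ x
  rw [he x (hom_mem X hφ₀ x), ← autFun_apply a (hom_mem X hφ₀ x)]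
  let K : Subgroup Ω :=
    { carrier := {y | y ∈ T ∧ autFun a y ∈ H}
      one_mem' := ⟨one_mem _, by
        rw [autFun_apply a (one_mem _)]
        show ((a 1 : T) : Ω) ∈ H
        rw [map_one]
        exact one_mem _⟩
      mul_mem' := fun {y z} hy hz => ⟨mul_mem hy.1 hz.1, by
        rw [autFun_map_mul a hy.1 hz.1]; exact mul_mem hy.2 hz.2⟩
      inv_mem' := fun {y} hy => ⟨inv_mem hy.1, by
        rw [autFun_map_inv a hy.1]; exact inv_mem hy.2⟩ }
  suffices h : H ≤ K from (h h0).2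
  refine hyperfocal_le_iff_displ X fun P hP b hb hco y =>
    ⟨mul_mem (inv_mem (hP y.2)) (hP (b y).2), ?_⟩
  have hβ := (mem_autGroup_iff Y hTU).1 ha
  have hφa : autHom a hP ∈ Y.Hom P := hom_restrict Y hβ hP fun _ => rfl
  have hr := autHom_range a hP
  have hb' := NormalOverSylow.congr_mem_of_invariant hinv hP hφa hr hb
  have hco' : (orderOf (MulAut.congr (isoOf hφa hr) b)).Coprime p := by
    rwa [MulEquiv.orderOf_eq]
  have h2 := mem_hyperfocal X (autImg_le a P) hb' hco' (isoOf hφa hr y)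
  rw [autFun_map_mul a (inv_mem (hP y.2)) (hP (b y).2), autFun_map_inv a (hP y.2)]
  have e : MulAut.congr (isoOf hφa hr) b (isoOf hφa hr y) = isoOf hφa hr (b y) :=
    congrArg (fun t => isoOf hφa hr (b t)) ((isoOf hφa hr).symm_apply_apply y)
  rw [e, Subgroup.coe_mul, Subgroup.coe_inv, isoOf_apply, isoOf_apply, autHom_apply,
    autHom_apply] at h2
  exact h2

/-- The `p`-residual of a weakly normal subsystem is weakly normal. -/
theorem weaklyNormal_pResidual (hU : IsPGroup p U) {Y : Cfsg.FusionSystem U}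
    {X : Cfsg.FusionSystem T} (hX : X.IsWeaklyNormalIn Y p)
    {D : Cfsg.FusionSystem (X.hyperfocalSubgroup p)} (hD : X.IsPResidual p D) :
    D.IsWeaklyNormalIn Y p := by
  have hV := hyperfocal_closed hU hX
  have hinv := hX.2.2
  have hTU : T ≤ U := hinv.2.1.1
  have hVT : X.hyperfocalSubgroup p ≤ T := hyperfocal_le X
  have : Finite T := finite_of_le hTU
  have : Finite (X.hyperfocalSubgroup p) := finite_of_le hV.1
  have hidx := hD.2
  have hsub : D.IsSubsystemOf Y := fun P _ hφ => hinv.1 P (hidx.1 P hφ)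
  have hDX := PPowerExist.isNormalIn_of_pPowerIndex (hU.to_le hTU) hX.1 hVT
    (CfsgLib.FusTate.hyperfocal_normal X p) le_rfl hD.1 hidx
  refine ⟨hD.1, hX.2.1, hsub, hV, fun P hP φ hφ a ha => ?_, fun P hP φ hφ => ?_⟩
  · have key : D.Hom P ⊆ (PPrimeExist.invCore (PPrimeExist.onT Y hV) D).Hom P := by
      refine FusAut.hom_subset_of_pResidual (hU.to_le hV.1) hD.1 _ le_rfl (fun R hR => ?_) P
      refine LocalCharP.map_pResidual_le_iff.2 fun γ hγ hco => ?_
      refine (mem_autGroup_iff _ hR).2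
        ⟨⟨hR, hsub R ((mem_autGroup_iff D hR).1 hγ)⟩, fun β hβ => ?_⟩
      have hbD : autHom β hR ∈ Y.Hom R := (autHom_mem hβ hR).2
      have hbr := autHom_range β hR
      have hmem : MulAut.congr (isoOf hbD hbr) γ ∈ D.autGroup (autImg β R) :=
        hidx.2.2 _ (autImg_le β R) (LocalCharP.mem_map_pResidual
          (NormalOverSylow.congr_mem_of_invariant hinv (hR.trans hVT) hbD hbr
            (autGroup_mono hidx.1 R hγ)) (by rwa [MulEquiv.orderOf_eq]))
      refine ⟨_, (mem_autGroup_iff D (autImg_le β R)).1 hmem, fun x hx => ?_⟩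
      have e : (⟨autFun β x, hx⟩ : autImg β R) = isoOf hbD hbr x :=
        Subtype.ext ((isoOf_apply hbD hbr x).trans (autHom_apply β hR x)).symm
      rw [e]
      show ((isoOf hbD hbr (γ ((isoOf hbD hbr).symm (isoOf hbD hbr x))) : autImg β R) : Ω) = _
      rw [MulEquiv.symm_apply_apply, isoOf_apply, autHom_apply]
      rfl
    obtain ⟨χ, hχ, hχe⟩ := (key hφ).2 a ((PPrimeExist.autGroup_onT hV).2 ha)
    refine ⟨χ, hχ, fun x hφx hax => ?_⟩
    rw [← autFun_apply a hφx]
    refine Eq.trans ?_ (hχe x (autFun_mem_autImg a hP x.2))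
    congr 1
    exact Subtype.ext (autFun_apply a (hP x.2)).symm
  · obtain ⟨a, ha, φ₀, hφ₀, he⟩ := hinv.2.2.2 P (hP.trans hVT) φ hφ
    have hφ₀V : ∀ x : P, φ₀ x ∈ X.hyperfocalSubgroup p := fun x =>
      hV.2 P hP φ₀ (hinv.1 P hφ₀) x
    obtain ⟨c, hc, φ₁, hφ₁, he₁⟩ := hDX.1.2.2.2.2.2 P hP φ₀ hφ₀
    obtain ⟨f, hf, hfe, -⟩ := exists_mor_of_aut hTU ⟨a, ha⟩
    obtain ⟨⟨d, hd⟩, hde⟩ : ∃ d : Y.autGroup (X.hyperfocalSubgroup p),
        ∀ x : ↥(X.hyperfocalSubgroup p),
          (((d : MulAut _) x : ↥(X.hyperfocalSubgroup p)) : Ω) = f x := by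
      refine exists_aut_of_mor (hf.restrict hVT) ?_
      obtain ⟨R, hR, -⟩ := hf.exists_img hVT
      rw [hR]
      refine congrArg _ (Subgroup.eq_of_le_of_card_ge (fun y hy => ?_) (hf.card_img hVT hR).ge)
      obtain ⟨x, hx, rfl⟩ := hR.symm.subset hy
      exact mor_mem_closed hV hf (hVT hx) hx
    refine ⟨d * c, mul_mem hd (autGroup_mono hinv.1 _ hc), φ₁, hφ₁, fun x hx => ?_⟩
    show φ x = ((d (c ⟨φ₁ x, hx⟩) : ↥(X.hyperfocalSubgroup p)) : Ω)
    rw [hde, ← he₁ x hx, he x (hVT (hφ₀V x))]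
    exact (hfe ⟨φ₀ x, hVT (hφ₀V x)⟩).symm

/-- A weakly normal subsystem equal to its `p'`-residual is normal. -/
theorem normal_of_reduced (hU : IsPGroup p U) {Y : Cfsg.FusionSystem U} {X : Cfsg.FusionSystem T}
    (hX : X.IsWeaklyNormalIn Y p) (hr : X.IsPPrimeResidual p X) : X.IsNormalIn Y p :=
  PPrimeExist.isNormalIn_residual hU hX hr

/-- A weakly normal subsystem is weakly normal in the saturated systems between. -/
theorem weaklyNormal_restrict (hU : IsPGroup p U) {Y : Cfsg.FusionSystem U}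
    {X : Cfsg.FusionSystem T} (hX : X.IsWeaklyNormalIn Y p) {W : Cfsg.FusionSystem V}
    (hW : W.IsSaturated p) (hWY : W.IsSubsystemOf Y) (hXW : X.IsSubsystemOf W) :
    X.IsWeaklyNormalIn W p := by
  obtain ⟨hXs, -, hinv⟩ := hX
  have hTU : T ≤ U := hinv.2.1.1
  have hVU : V ≤ U := hom_le Y (hWY V (subtype_mem W le_rfl))
  have hTV : T ≤ V := hom_le W (hXW T (subtype_mem X le_rfl))
  have : Finite V := finite_of_le hVU
  have hcl : W.StronglyClosed T := ⟨hTV, fun R hR φ hφ x => hinv.2.1.2 R hR φ (hWY R hφ) x⟩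
  refine ⟨hXs, hW, (invariant_iff_strong (hU.to_le hVU) hW hXW hcl).2 ?_⟩
  intro P Q hPQ hQT φ hφ hφQ ψ hψ
  exact strong_of_invariant hTU hinv P Q hPQ hQT φ hφ hφQ ψ (hWY Q hψ)

/-- The step: `W` is the `p'`-residual of the `p`-residual of `X`. -/
def IsStep (p : ℕ) (X : Cfsg.FusionSystem T)
    (W : Cfsg.FusionSystem (X.hyperfocalSubgroup p)) : Prop :=
  ∃ D : Cfsg.FusionSystem (X.hyperfocalSubgroup p), X.IsPResidual p D ∧
    W = PPrimeExist.residual p D

theorem exists_step [Finite T] (hT : IsPGroup p T) {X : Cfsg.FusionSystem T}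
    (hX : X.IsSaturated p) : ∃ W, IsStep p X W := by
  obtain ⟨D, hD, hDi⟩ := PPowerExist.exists_pPowerIndex hT X hX (hyperfocal_le X) le_rfl
  exact ⟨_, D, ⟨hD, hDi⟩, rfl⟩

theorem IsStep.props [Finite T] (hT : IsPGroup p T) {X : Cfsg.FusionSystem T}
    {W : Cfsg.FusionSystem (X.hyperfocalSubgroup p)} (h : IsStep p X W) :
    W.IsSaturated p ∧ W.IsPPrimeResidual p W ∧ W.IsSubsystemOf X := by
  obtain ⟨D, hD, rfl⟩ := h
  have : Finite (X.hyperfocalSubgroup p) := finite_of_le (hyperfocal_le X)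
  have h1 := PPrimeExist.isPPrimeResidual_residual (hT.to_le (hyperfocal_le X)) hD.1
  exact ⟨h1.1, NormalEnvelope.residual_idem h1, fun P φ hφ => hD.2.1 P (h1.2.1.1 P hφ)⟩

theorem IsStep.normal (hU : IsPGroup p U) {Y : Cfsg.FusionSystem U} {X : Cfsg.FusionSystem T}
    (hX : X.IsWeaklyNormalIn Y p) {W : Cfsg.FusionSystem (X.hyperfocalSubgroup p)}
    (h : IsStep p X W) : W.IsNormalIn Y p := by
  obtain ⟨D, hD, rfl⟩ := h
  have hTU : T ≤ U := hX.2.2.2.1.1
  have : Finite T := finite_of_le hTU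
  have : Finite (X.hyperfocalSubgroup p) := finite_of_le ((hyperfocal_le X).trans hTU)
  exact PPrimeExist.isNormalIn_residual hU (weaklyNormal_pResidual hU hX hD)
    (PPrimeExist.isPPrimeResidual_residual (hU.to_le ((hyperfocal_le X).trans hTU)) hD.1)

/-- Steps of a normal pair form a normal pair. -/
theorem IsStep.mono (hU : IsPGroup p U) {Y : Cfsg.FusionSystem U} {X : Cfsg.FusionSystem T}
    (hX : X.IsWeaklyNormalIn Y p) {W : Cfsg.FusionSystem (X.hyperfocalSubgroup p)}
    (hW : IsStep p X W) {W' : Cfsg.FusionSystem (Y.hyperfocalSubgroup p)}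
    (hW' : IsStep p Y W') : W.IsNormalIn W' p := by
  have hTU : T ≤ U := hX.2.2.2.1.1
  have : Finite T := finite_of_le hTU
  have hN := hW.normal hU hX
  have hp' := hW'.props hU
  have hred := (hW.props (hU.to_le hTU)).2.1
  obtain ⟨DX, hDX, rfl⟩ := hW
  obtain ⟨DY, hDY, rfl⟩ := hW'
  have hHH : X.hyperfocalSubgroup p ≤ Y.hyperfocalSubgroup p := hyperfocal_mono hX.2.2.1 hTU
  have hHY : Y.hyperfocalSubgroup p ≤ U := hyperfocal_le Y
  have : Finite (Y.hyperfocalSubgroup p) := finite_of_le hHY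
  have : Finite (X.hyperfocalSubgroup p) := finite_of_le (hHH.trans hHY)
  have hsub : DX.IsSubsystemOf DY := fun P => hom_subset_of_pResidual
    (hU.to_le (hHH.trans hHY)) hDX.1 DY hHH (fun R hR =>
      (map_pResidual_mono (autGroup_mono (fun Q ψ hψ => hX.2.2.1 Q (hDX.2.1 Q hψ)) R)).trans
        (hDY.2.2.2 R (hR.trans hHH))) P
  have h1 := weaklyNormal_restrict hU (weaklyNormal_pResidual hU hX hDX) hDY.1 hDY.2.1 hsub
  have hY' := PPrimeExist.isPPrimeResidual_residual (F := DY) (hU.to_le hHY) hDY.1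
  have h2 := residual_mono (hU.to_le hHY) hY'.1 hY'.2.1 h1.2.2
  exact normal_of_reduced (hU.to_le hHY)
    (weaklyNormal_restrict hU hN.1 hY'.1 (fun P φ hφ => hDY.2.1 P (hY'.2.1.1 P hφ)) h2) hred

/-- Hyperfocal subgroup everything and equal to its residual of index prime to `p`. -/
def Stable (p : ℕ) (X : Cfsg.FusionSystem T) : Prop :=
  X.hyperfocalSubgroup p = T ∧ X.IsPPrimeResidual p X

theorem IsStep.eq_of_stable [Finite T] (hT : IsPGroup p T) {C : Cfsg.FusionSystem T}
    (hC : Stable p C) {W : Cfsg.FusionSystem (C.hyperfocalSubgroup p)} (h : IsStep p C W) :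
    ∀ P, C.Hom P = W.Hom P := by
  obtain ⟨D, hD, rfl⟩ := h
  have : Finite (C.hyperfocalSubgroup p) := finite_of_le (hyperfocal_le C)
  exact same_residual (same_of_index hT le_rfl hC.1.symm hC.2.1 hD.1 (self_pPowerIndex C) hD.2)
    hC.2 (PPrimeExist.isPPrimeResidual_residual (hT.to_le (hyperfocal_le C)) hD.1)

/-- Subnormality with the length of the chain. -/
inductive SubN {T : Subgroup Ω} (C : Cfsg.FusionSystem T) (p : ℕ) :
    ℕ → ∀ {S : Subgroup Ω}, Cfsg.FusionSystem S → Prop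
  | refl : SubN C p 0 C
  | step {n : ℕ} {U S : Subgroup Ω} {D : Cfsg.FusionSystem U} {F : Cfsg.FusionSystem S} :
      SubN C p n D → D.IsNormalIn F p → SubN C p (n + 1) F

omit [Finite U] [Fact p.Prime] in
theorem SubN.congr {C : Cfsg.FusionSystem T} {n : ℕ} {A B : Subgroup Ω}
    {E : Cfsg.FusionSystem A} {E' : Cfsg.FusionSystem B} (h : SubN C p n E)
    (he : ∀ P, E.Hom P = E'.Hom P) : SubN C p n E' := by
  obtain rfl := same_eq he
  obtain rfl := fusionSystem_ext he
  exact h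

omit [Finite U] [Fact p.Prime] in
theorem SubN.subnormal {C : Cfsg.FusionSystem T} {n : ℕ} {E : Cfsg.FusionSystem S}
    (h : SubN C p n E) : C.IsSubnormalIn E p := by
  induction h with
  | refl => exact .refl _ _
  | step _ hn ih => exact .step ih hn

omit [Finite U] [Fact p.Prime] in
theorem exists_subN {C : Cfsg.FusionSystem T} {E : Cfsg.FusionSystem S}
    (h : C.IsSubnormalIn E p) : ∃ n, SubN C p n E := by
  induction h with
  | refl => exact ⟨0, .refl⟩
  | step _ hn ih => exact ⟨_, .step ih.choose_spec hn⟩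

omit [Finite U] in
/-- A stable subnormal system stays subnormal in the step, by a chain of the same length. -/
theorem SubN.step_mem {C : Cfsg.FusionSystem T} (hC : Stable p C) {n : ℕ} {A : Subgroup Ω}
    {X : Cfsg.FusionSystem A} (h : SubN C p n X) :
    ∀ [Finite A], IsPGroup p A → ∀ W : Cfsg.FusionSystem (X.hyperfocalSubgroup p),
      IsStep p X W → SubN C p n W := by
  induction h with
  | refl => exact fun hA W hW => SubN.congr .refl (hW.eq_of_stable hA hC)
  | @step n B A D X h hn ih =>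
    intro hfin hA W hW
    have hBA : B ≤ A := hn.1.2.2.2.1.1
    have : Finite B := finite_of_le hBA
    obtain ⟨W₀, hW₀⟩ := exists_step (hA.to_le hBA) hn.1.1
    exact .step (ih (hA.to_le hBA) W₀ hW₀) (hW₀.mono hA hn.1 hW)

/-- A stable system subnormal in a normal subsystem is subnormal in a stable normal subsystem. -/
theorem exists_stable (hU : IsPGroup p U) {Y : Cfsg.FusionSystem U} {C : Cfsg.FusionSystem T}
    (hC : Stable p C) {n : ℕ} {A : Subgroup Ω} {X : Cfsg.FusionSystem A}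
    (hX : X.IsWeaklyNormalIn Y p) (h : SubN C p n X) :
    ∃ (B : Subgroup Ω) (L : Cfsg.FusionSystem B), Stable p L ∧ L.IsNormalIn Y p ∧ SubN C p n L := by
  induction hm : Nat.card (X.hyperfocalSubgroup p) using Nat.strong_induction_on
    generalizing A with
  | _ m ih =>
  have hAU : A ≤ U := hX.2.2.2.1.1
  have : Finite A := finite_of_le hAU
  have hA := hU.to_le hAU
  obtain ⟨W, hW⟩ := exists_step hA hX.1
  have hn := hW.normal hU hX
  have hs := h.step_mem hC hA W hW
  have hred := (hW.props hA).2.1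
  by_cases he : W.hyperfocalSubgroup p = X.hyperfocalSubgroup p
  · exact ⟨_, W, ⟨he, hred⟩, hn, hs⟩
  · have : Finite (X.hyperfocalSubgroup p) := finite_of_le (hyperfocal_le X)
    refine ih _ ?_ hn.1 hs rfl
    subst hm
    refine lt_of_le_of_ne (Subgroup.card_le_of_le (hyperfocal_le W)) fun e =>
      he (Subgroup.eq_of_le_of_card_ge (hyperfocal_le W) e.ge)

end CfsgLib.Comp89
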