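import Cfsg.Agent.Fus.Mor
import Cfsg.Agent.Fus.PPrimeExist.Invariant
import Cfsg.Agent.Fusion.Alperin.Theorem
import Cfsg.Agent.Fusion.Alperin.Criteria

/-!
The residual of index prime to `p` of an invariant subsystem `X` of a saturated system `Y` lies in
every saturated subsystem of `Y` of index prime to `p`.

The main step: if a map of `Y` defined on the subgroup `T` of `X` agrees on an `X`-centric subgroup
with a map of such a subsystem `Y'`, it is a map of `Y'` (climb through normalizers; two extensions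
differ by an element of `p`-power order).
-/

set_option autoImplicit false

namespace CfsgLib.Comp89

open Cfsg Cfsg.FusionSystem CfsgLib.Fus

variable {Ω : Type*} [Group Ω] {S T U : Subgroup Ω}

theorem mor_mono {E : Cfsg.FusionSystem T} {F : Cfsg.FusionSystem S} (h : E.IsSubsystemOf F)
    {P : Subgroup Ω} {f : Ω → Ω} (hf : Mor E P f) : Mor F P f := by
  obtain ⟨φ, hφ, e⟩ := hf
  exact ⟨φ, h P hφ, e⟩

theorem mor_of_hom {F : Cfsg.FusionSystem S} {P : Subgroup Ω} {φ : P →* Ω} (hφ : φ ∈ F.Hom P)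
    {f : Ω → Ω} (h : ∀ x : P, φ x = f x) : Mor F P f := ⟨φ, hφ, h⟩

theorem hom_of_mor {F : Cfsg.FusionSystem S} {P : Subgroup Ω} {φ : P →* Ω} {f : Ω → Ω}
    (hf : Mor F P f) (h : ∀ x : P, φ x = f x) : φ ∈ F.Hom P := by
  obtain ⟨ψ, hψ, e⟩ := hf
  exact hom_congr F hψ fun x => (h x).trans (e x).symm

theorem mor_mem_closed {F : Cfsg.FusionSystem S} (hT : F.StronglyClosed T) {P : Subgroup Ω}
    {f : Ω → Ω} (hf : Mor F P f) {x : Ω} (hx : x ∈ P) (hxT : x ∈ T) : f x ∈ T := by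
  obtain ⟨φ, hφ, e⟩ := hf
  rw [← e ⟨x, hx⟩]
  exact Fusion.Alperin.map_mem_of_stronglyClosed hT hφ (x := ⟨x, hx⟩) hxT

/-- An automorphism group of a subgroup receives the automorphisms given by maps. -/
theorem mem_autGroup_of_mor {F : Cfsg.FusionSystem S} {P : Subgroup Ω} {a : MulAut P} {f : Ω → Ω}
    (hf : Mor F P f) (h : ∀ x : P, ((a x : P) : Ω) = f x) : a ∈ F.autGroup P :=
  mem_autGroup_of_mem F (hom_of_mor hf h)

/-- The image of an `X`-centric subgroup under a map of a system in which `X` is invariant. -/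
theorem isCentric_image {X : Cfsg.FusionSystem T} {Y : Cfsg.FusionSystem U}
    (hX : X.IsInvariantIn Y) {R R' : Subgroup Ω} (hR : X.IsCentric R) {f : Ω → Ω}
    (hf : Mor Y R f) (hR' : f '' (R : Set Ω) = R') : X.IsCentric R' := by
  obtain ⟨φ, hφ, e⟩ := hf
  obtain ⟨a, ha, φ₀, hφ₀, he⟩ := hX.2.2.2 R hR.1 φ hφ
  have h1 : X.IsCentric φ₀.range := isCentric_of_isConj hR ⟨φ₀, hφ₀, rfl⟩
  have h2 : R' = autImg a φ₀.range := by
    ext y
    rw [mem_autImg h1.1]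
    constructor
    · intro hy
      obtain ⟨x, hx, rfl⟩ := hR'.symm.subset hy
      refine ⟨φ₀ ⟨x, hx⟩, ⟨_, rfl⟩, ?_⟩
      rw [← e ⟨x, hx⟩, he ⟨x, hx⟩ (hom_mem X hφ₀ _), autFun_apply a (hom_mem X hφ₀ _)]
    · rintro ⟨_, ⟨x, rfl⟩, rfl⟩
      show _ ∈ (R' : Set Ω)
      rw [← hR']
      refine ⟨x, x.2, ?_⟩
      rw [← e x, he x (hom_mem X hφ₀ _), autFun_apply a (hom_mem X hφ₀ _)]
  rw [h2]
  exact PPrimeExist.isCentric_autImg hX ha h1

theorem pElement_mem {Y Y' : Cfsg.FusionSystem U} {p : ℕ} (hi : Y'.HasPrimeToPIndexIn Y p)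
    {P : Subgroup Ω} (hP : P ≤ U) {x : MulAut P} (hx : x ∈ Y.autGroup P) {k : ℕ}
    (hk : orderOf x = p ^ k) : x ∈ Y'.autGroup P :=
  hi.2 P hP ⟨⟨x, hx⟩, Subgroup.subset_closure ⟨k, by rwa [← Subgroup.orderOf_coe]⟩, rfl⟩

variable [Finite U] {p : ℕ} [Fact p.Prime]

/-- A map on `T` agreeing on an `X`-centric subgroup with a subsystem of index prime to `p`. -/
theorem climb_mem (hU : IsPGroup p U) {Y Y' : Cfsg.FusionSystem U} (hY' : Y'.IsSaturated p)
    (hi : Y'.HasPrimeToPIndexIn Y p) {X : Cfsg.FusionSystem T} (hX : X.IsInvariantIn Y)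
    {R : Subgroup Ω} (hR : X.IsCentric R) {f : Ω → Ω} (hf : Mor Y T f) (hfR : Mor Y' R f) :
    Mor Y' T f := by
  classical
  have hTU : T ≤ U := hX.2.1.1
  have : Finite T := finite_of_le hTU
  have hTp : IsPGroup p T := hU.to_le hTU
  induction hn : Nat.card T - Nat.card R using Nat.strong_induction_on generalizing R with
  | _ n ih =>
  by_cases htop : R = T
  · exact htop ▸ hfR
  have hRT := hR.1
  have hRU := hRT.trans hTU
  obtain ⟨g₀, hg₀, hg₀R⟩ := Fusion.Alperin.exists_normalizing_not_mem hTp hRT htop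
  set N := normalizerIn T R with hN
  have hNT : N ≤ T := normalizerIn_le R
  have hRN : R ≤ N := le_normalizerIn hRT
  have : Finite N := finite_of_le (hNT.trans hTU)
  have hlt : Nat.card R < Nat.card N := Fusion.Alperin.card_lt_of_le_of_mem hNT hRN hg₀ hg₀R
  suffices h : Mor Y' N f from ih (Nat.card T - Nat.card N)
    (by have := Subgroup.card_le_of_le hNT; omega) (isCentric_of_le hR hRN hNT) h rfl
  obtain ⟨R', hR', hR'U⟩ := hfR.exists_img (le_refl R)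
  obtain ⟨Q, hconj, hQ⟩ := exists_fullyNormalized Y' hR'U
  obtain ⟨χ, hχ, hχr, ψ, hψ, hψe⟩ := exists_normalizer_map_fn hU hY' hQ hconj
  obtain ⟨g, hg, hge⟩ := exists_mor hψ
  have hR'N : R' ≤ normalizerIn U R' := le_normalizerIn hR'U
  have hgR' : g '' (R' : Set Ω) = Q := by
    rw [← hχr]
    ext y
    constructor
    · rintro ⟨x, hx, rfl⟩
      exact ⟨⟨x, hx⟩, by rw [← hψe ⟨x, hx⟩ (hR'N hx), ← hge]⟩
    · rintro ⟨x, rfl⟩
      exact ⟨x, x.2, by rw [hge ⟨x, hR'N x.2⟩, hψe]⟩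
  have hgY : Mor Y (normalizerIn U R') g := mor_mono hi.1 hg
  have hfN : ∀ x ∈ N, f x ∈ normalizerIn U R' := fun x hx =>
    hf.map_normalizer hRT hR' (hNT hx) hx.2
  have hθ : Mor Y N (g ∘ f) := (hf.restrict hNT).comp hgY hfN
  have hh : Mor Y' R (g ∘ f) :=
    hfR.comp hg fun x hx => hR'N (show f x ∈ (R' : Set Ω) from hR' ▸ ⟨x, hx, rfl⟩)
  have hhQ : (g ∘ f) '' (R : Set Ω) = Q := by rw [Set.image_comp, hR', hgR']
  have hQc : X.IsCentric Q := isCentric_image hX hR (mor_mono hi.1 hh) hhQ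
  obtain ⟨τ, hτ, hτe⟩ := hh.exists_ext hhQ (fullyNormalized_props hU hY' hQ).2 hRN
    (fun x hx => ⟨hTU hx.1, hx.2⟩) fun l hl => ⟨(g ∘ f) l, hθ.mem hl, fun x hx =>
      hθ.map_conj hl (hRN hx)⟩
  have hτY := mor_mono hi.1 hτ
  have hd : ∀ l ∈ N, (τ l)⁻¹ * (g ∘ f) l ∈ Q := by
    intro l hl
    refine centralizerIn_le_of_centric hQc ⟨T.mul_mem (T.inv_mem (mor_mem_closed hX.2.1 hτY hl
      hl.1)) (mor_mem_closed hX.2.1 hθ hl hl.1), fun q hq => ?_⟩
    obtain ⟨r, hr, rfl⟩ := hhQ.symm.subset hq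
    have hlr : l * r * l⁻¹ ∈ R := conj_mem_of_normalizer hl.2 hr
    have h1 : τ (l * r * l⁻¹) = (g ∘ f) (l * r * l⁻¹) := hτe _ hlr
    rw [hτY.map_conj hl (hRN hr), hθ.map_conj hl (hRN hr), hτe r hr] at h1
    calc (g ∘ f) r * ((τ l)⁻¹ * (g ∘ f) l)
        = (τ l)⁻¹ * (τ l * (g ∘ f) r * (τ l)⁻¹) * (g ∘ f) l := by group
      _ = (τ l)⁻¹ * ((g ∘ f) l * (g ∘ f) r * ((g ∘ f) l)⁻¹) * (g ∘ f) l := by rw [h1]
      _ = ((τ l)⁻¹ * (g ∘ f) l) * (g ∘ f) r := by group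
  obtain ⟨M, hM, hMU⟩ := hτ.exists_img (le_refl N)
  obtain ⟨τi, hτi, hl, hr, hτiM⟩ := hτ.exists_inv hM
  have hτiN : ∀ m ∈ M, τi m ∈ N := fun m hm => hτiM.subset ⟨m, hm, rfl⟩
  have hc : Mor Y M ((g ∘ f) ∘ τi) := (mor_mono hi.1 hτi).comp hθ hτiN
  have : Finite M := finite_of_le hMU
  have hQM : Q ≤ M := fun q hq => by
    obtain ⟨r, hr, rfl⟩ := hhQ.symm.subset hq
    show _ ∈ (M : Set Ω)
    rw [← hM, ← hτe r hr]
    exact ⟨r, hRN hr, rfl⟩
  have hfix : ∀ q ∈ Q, (g ∘ f) (τi q) = q := fun q hq => by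
    obtain ⟨r, hr, rfl⟩ := hhQ.symm.subset hq
    rw [← hτe r hr, hl r (hRN hr), hτe r hr]
  have hdisp : ∀ m ∈ M, m⁻¹ * (g ∘ f) (τi m) ∈ Q := fun m hm => by
    have := hd (τi m) (hτiN m hm)
    rwa [hr m hm] at this
  obtain ⟨M', hM', hM'U⟩ := hc.exists_img (le_refl M)
  have hM'M : M' = M := by
    have hle : M' ≤ M := fun y hy => by
      obtain ⟨m, hm, rfl⟩ := hM'.symm.subset hy
      have := M.mul_mem hm (hQM (hdisp m hm))
      rwa [mul_inv_cancel_left] at this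
    exact Subgroup.eq_of_le_of_card_ge hle (hc.card_img (le_refl M) hM').ge
  subst hM'M
  obtain ⟨⟨a, haY⟩, hae⟩ := exists_aut_of_mor hc hM'
  have hpow : ∀ (k : ℕ) (m : M'), (((a ^ k) m : M') : Ω) = m * ((m : Ω)⁻¹ * (g ∘ f) (τi m)) ^ k := by
    intro k
    induction k with
    | zero => intro m; simp
    | succ k ihk =>
      intro m
      have hd' := Q.pow_mem (hdisp m m.2) k
      have hrw : a (m * ⟨_, hQM hd'⟩) =
          a m * (⟨((m : Ω)⁻¹ * (g ∘ f) (τi m)) ^ k, hQM hd'⟩ : M') := by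
        rw [map_mul]
        congr 1
        exact Subtype.ext ((hae _).trans (hfix _ hd'))
      rw [pow_succ', MulAut.mul_apply,
        show (a ^ k) m = m * ⟨_, hQM hd'⟩ from Subtype.ext (ihk m), hrw, pow_succ',
        Subgroup.coe_mul, hae m, ← mul_assoc, mul_inv_cancel_left]
      rfl
  have : Finite Q := finite_of_le (hQc.1.trans hTU)
  obtain ⟨n', hn'⟩ := IsPGroup.iff_card.1 (hU.to_le (hQc.1.trans hTU))
  have hap : a ^ p ^ n' = 1 := by
    refine MulEquiv.ext fun m => Subtype.ext ?_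
    rw [hpow, ← hn']
    have h1 : (⟨_, hdisp m m.2⟩ : Q) ^ Nat.card Q = 1 := pow_card_eq_one'
    have h2 := congrArg Subtype.val h1
    rw [Subgroup.coe_pow, Subgroup.coe_one] at h2
    rw [h2, mul_one]
    rfl
  obtain ⟨j, -, hj⟩ := (Nat.dvd_prime_pow (Fact.out : p.Prime)).1 (orderOf_dvd_of_pow_eq_one hap)
  have haY' : a ∈ Y'.autGroup M' := pElement_mem hi hMU haY hj
  obtain ⟨c, hc', hce, -⟩ := exists_mor_of_aut hMU ⟨a, haY'⟩
  have hθ' : Mor Y' N (g ∘ f) := by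
    refine (hτ.comp hc' fun x hx => hM.subset ⟨x, hx, rfl⟩).congr fun x hx => ?_
    show g (f x) = c (τ x)
    have hx' : τ x ∈ M' := hM.subset ⟨x, hx, rfl⟩
    rw [hce ⟨τ x, hx'⟩, hae ⟨τ x, hx'⟩]
    show g (f x) = g (f (τi (τ x)))
    rw [hl x hx]
  obtain ⟨W, hW, -⟩ := (hf.restrict hNT).exists_img (le_refl N)
  have hWN : W ≤ normalizerIn U R' := fun y hy => by
    obtain ⟨x, hx, rfl⟩ := hW.symm.subset hy
    exact hfN x hx
  obtain ⟨W', hW', -⟩ := hg.exists_img hWN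
  obtain ⟨gi, hgi, hgil, -, -⟩ := (hg.restrict hWN).exists_inv hW'
  refine (hθ'.comp hgi fun x hx => hW'.subset ⟨f x, hW.subset ⟨x, hx, rfl⟩, rfl⟩).congr
    fun x hx => ?_
  exact (hgil _ (hW.subset ⟨x, hx, rfl⟩)).symm

/-- The residual of an invariant subsystem lies in every saturated subsystem of index prime to `p`. -/
theorem residual_mono (hU : IsPGroup p U) {Y Y' : Cfsg.FusionSystem U} (hY' : Y'.IsSaturated p)
    (hi : Y'.HasPrimeToPIndexIn Y p) {X : Cfsg.FusionSystem T} (hX : X.IsInvariantIn Y) :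
    (PPrimeExist.residual p X).IsSubsystemOf Y' := by
  have hTU : T ≤ U := hX.2.1.1
  have hT' : Y'.StronglyClosed T :=
    ⟨hTU, fun R hR φ hφ x => hX.2.1.2 R hR φ (hi.1 R hφ) x⟩
  have hgen : ∀ P : Subgroup Ω, X.IsCentric P →
      PPrimeExist.pGen p X P ≤ (PPrimeExist.onT Y' hT').autGroup P := by
    intro P hP
    unfold PPrimeExist.pGen
    rw [Subgroup.map_le_iff_le_comap, Subgroup.closure_le]
    rintro σ ⟨k, hk⟩
    have h1 : (σ : MulAut P) ∈ Y'.autGroup P := pElement_mem hi (hP.1.trans hTU)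
      (autGroup_mono hX.1 P σ.2) (by rwa [Subgroup.orderOf_coe])
    exact (mem_autGroup_iff _ hP.1).2 ⟨hP.1, (mem_autGroup_iff Y' (hP.1.trans hTU)).1 h1⟩
  intro P φ hφ
  refine (hφ (PPrimeExist.onT Y' hT') ⟨hgen, ?_⟩).2
  refine (Subgroup.closure_le _).2 ?_
  rintro β ⟨hβ, R, hR, hb⟩
  have hbY' : autHom β hR.1 ∈ Y'.Hom R := (PPrimeExist.base_le p X hgen R hb).2
  have hf : Mor Y T (autFun β) := mor_of_hom (hX.1 T ((mem_autGroup_iff X le_rfl).1 hβ))
    fun x => (autFun_apply β x.2).symm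
  have := climb_mem hU hY' hi hX hR hf (mor_of_hom hbY' fun x => autHom_apply β hR.1 x)
  exact (mem_autGroup_iff _ le_rfl).2 ⟨le_rfl, hom_of_mor this fun x => (autFun_apply β x.2).symm⟩

end CfsgLib.Comp89
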