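import Cfsg.Agent.Fus.Comp89.Mono
import Cfsg.Agent.Fus.PPrimeExist.Displacement
import Cfsg.Agent.Eq.Def_FusionSystem

/-!
Maps of a fusion system over a commuting product `A B` of two strongly closed subgroups which are a
composite of a map fixing `B` pointwise and a map fixing `A` pointwise.
-/

set_option autoImplicit false

namespace CfsgLib.Comp89

open Cfsg Cfsg.FusionSystem CfsgLib.Fus
open CfsgLib.Fus.PPrimeExist (mem_sup_commuting)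

variable {Ω : Type*} [Group Ω] {U : Subgroup Ω} {Y : Cfsg.FusionSystem U}
  {A B P Q : Subgroup Ω} {f f₁ f₂ g g₁ g₂ : Ω → Ω}

/-- Two strongly closed subgroups commuting elementwise. -/
structure Pair (Y : Cfsg.FusionSystem U) (A B : Subgroup Ω) : Prop where
  closedA : Y.StronglyClosed A
  closedB : Y.StronglyClosed B
  comm : ∀ a ∈ A, ∀ b ∈ B, a * b = b * a

theorem Pair.symm (h : Pair Y A B) : Pair Y B A :=
  ⟨h.closedB, h.closedA, fun b hb a ha => (h.comm a ha b hb).symm⟩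

/-- A map on `P ⊔ B` fixing `B` pointwise. -/
def Half (Y : Cfsg.FusionSystem U) (B P : Subgroup Ω) (f₁ : Ω → Ω) : Prop :=
  Mor Y (P ⊔ B) f₁ ∧ ∀ x ∈ B, f₁ x = x

/-- A map which is a composite of two halves. -/
def IsDec (Y : Cfsg.FusionSystem U) (A B P : Subgroup Ω) (f : Ω → Ω) : Prop :=
  ∃ f₁ f₂, Half Y B P f₁ ∧ Half Y A P f₂ ∧ ∀ x ∈ P, f x = f₁ (f₂ x)

theorem mor_mem_of_sup {M N W : Subgroup Ω} (hf : Mor Y (M ⊔ N) f) (hM : ∀ x ∈ M, f x ∈ W)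
    (hN : ∀ x ∈ N, f x ∈ W) {y : Ω} (hy : y ∈ M ⊔ N) : f y ∈ W := by
  let K : Subgroup Ω :=
    { carrier := {y | y ∈ M ⊔ N ∧ f y ∈ W}
      one_mem' := ⟨one_mem _, hM 1 (one_mem _)⟩
      mul_mem' := fun {a b} ha hb => ⟨mul_mem ha.1 hb.1, by
        rw [hf.map_mul ha.1 hb.1]; exact mul_mem ha.2 hb.2⟩
      inv_mem' := fun {a} ha => ⟨inv_mem ha.1, by
        rw [hf.map_inv ha.1]; exact inv_mem ha.2⟩ }
  have h : M ⊔ N ≤ K := sup_le (fun x hx => ⟨Subgroup.mem_sup_left hx, hM x hx⟩)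
    fun x hx => ⟨Subgroup.mem_sup_right hx, hN x hx⟩
  exact (h hy).2

/-- The parts of an element of the source. -/
theorem parts_mem {a b : Ω} (hb : b ∈ B) (hab : a * b ∈ P) : a ∈ P ⊔ B := by
  have := mul_mem (Subgroup.mem_sup_left (T := B) hab) (Subgroup.mem_sup_right (S := P) (inv_mem hb))
  rwa [mul_inv_cancel_right] at this

theorem parts_mem' {a b : Ω} (ha : a ∈ A) (hab : a * b ∈ P) : b ∈ P ⊔ A := by
  have := mul_mem (Subgroup.mem_sup_right (S := P) (inv_mem ha)) (Subgroup.mem_sup_left (T := A) hab)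
  rwa [inv_mul_cancel_left] at this

/-- The value of a composite of two halves. -/
theorem Pair.apply (h : Pair Y A B) (h₁ : Half Y B P f₁) (h₂ : Half Y A P f₂) {a b : Ω}
    (ha : a ∈ A) (hb : b ∈ B) (hab : a * b ∈ P) : f₁ (f₂ (a * b)) = f₁ a * f₂ b := by
  have hbP := parts_mem' ha hab
  have haP := parts_mem hb hab
  rw [h₂.1.map_mul (Subgroup.mem_sup_right ha) hbP, h₂.2 a ha]
  have hfb := mor_mem_closed h.closedB h₂.1 hbP hb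
  rw [h₁.1.map_mul haP (Subgroup.mem_sup_right hfb), h₁.2 _ hfb]

/-- Two halves commute. -/
theorem Pair.half_comm (h : Pair Y A B) (hPU : P ≤ A ⊔ B) (h₁ : Half Y B P f₁)
    (h₂ : Half Y A P f₂) {x : Ω} (hx : x ∈ P) : f₁ (f₂ x) = f₂ (f₁ x) := by
  obtain ⟨a, ha, b, hb, rfl⟩ := mem_sup_commuting h.comm (hPU hx)
  rw [h.apply h₁ h₂ ha hb hx, h.comm a ha b hb, h.symm.apply h₂ h₁ hb ha (h.comm a ha b hb ▸ hx)]
  exact h.comm _ (mor_mem_closed h.closedA h₁.1 (parts_mem hb hx) ha) _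
    (mor_mem_closed h.closedB h₂.1 (parts_mem' ha hx) hb)

theorem IsDec.symm (h : Pair Y A B) (hPU : P ≤ A ⊔ B) (hd : IsDec Y A B P f) :
    IsDec Y B A P f := by
  obtain ⟨f₁, f₂, h₁, h₂, he⟩ := hd
  exact ⟨f₂, f₁, h₂, h₁, fun x hx => (he x hx).trans (h.half_comm hPU h₁ h₂ hx)⟩

/-- The first half maps `P ⊔ B` into `Q ⊔ B`. -/
theorem Pair.half_maps (h : Pair Y A B) (hPU : P ≤ A ⊔ B) (h₁ : Half Y B P f₁)
    (h₂ : Half Y A P f₂) (hQ : ∀ x ∈ P, f₁ (f₂ x) ∈ Q) {y : Ω} (hy : y ∈ P ⊔ B) :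
    f₁ y ∈ Q ⊔ B := by
  refine mor_mem_of_sup h₁.1 (fun x hx => ?_) (fun x hx => ?_) hy
  · obtain ⟨a, ha, b, hb, rfl⟩ := mem_sup_commuting h.comm (hPU hx)
    have h3 := hQ _ hx
    rw [h.apply h₁ h₂ ha hb hx] at h3
    rw [h₁.1.map_mul (parts_mem hb hx) (Subgroup.mem_sup_right hb), h₁.2 b hb]
    exact mul_mem (parts_mem (mor_mem_closed h.closedB h₂.1 (parts_mem' ha hx) hb) h3)
      (Subgroup.mem_sup_right hb)
  · rw [h₁.2 x hx]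
    exact Subgroup.mem_sup_right hx

/-- The image of the first half. -/
theorem Pair.half_image (h : Pair Y A B) (hPU : P ≤ A ⊔ B) (h₁ : Half Y B P f₁)
    (h₂ : Half Y A P f₂) (hQ : (fun x => f₁ (f₂ x)) '' (P : Set Ω) = Q) :
    f₁ '' ((P ⊔ B : Subgroup Ω) : Set Ω) = ((Q ⊔ B : Subgroup Ω) : Set Ω) := by
  refine Set.Subset.antisymm ?_ ?_
  · rintro _ ⟨y, hy, rfl⟩
    exact h.half_maps hPU h₁ h₂ (fun x hx => hQ.subset ⟨x, hx, rfl⟩) hy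
  · obtain ⟨R, hR, -⟩ := h₁.1.exists_img (le_refl _)
    rw [hR]
    refine SetLike.coe_subset_coe.2 (sup_le (fun q hq => ?_) fun b hb => ?_)
    · obtain ⟨x, hx, rfl⟩ := hQ.symm.subset hq
      obtain ⟨a, ha, b, hb, rfl⟩ := mem_sup_commuting h.comm (hPU hx)
      have hfb := mor_mem_closed h.closedB h₂.1 (parts_mem' ha hx) hb
      show f₁ (f₂ (a * b)) ∈ R
      rw [h.apply h₁ h₂ ha hb hx]
      refine mul_mem ?_ ?_
      · show _ ∈ (R : Set Ω)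
        rw [← hR]
        exact ⟨a, parts_mem hb hx, rfl⟩
      · show _ ∈ (R : Set Ω)
        rw [← hR]
        exact ⟨_, Subgroup.mem_sup_right hfb, h₁.2 _ hfb⟩
    · show _ ∈ (R : Set Ω)
      rw [← hR]
      exact ⟨b, Subgroup.mem_sup_right hb, h₁.2 b hb⟩

theorem IsDec.congr (hd : IsDec Y A B P f) (hg : ∀ x ∈ P, g x = f x) : IsDec Y A B P g := by
  obtain ⟨f₁, f₂, h₁, h₂, he⟩ := hd
  exact ⟨f₁, f₂, h₁, h₂, fun x hx => (hg x hx).trans (he x hx)⟩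

theorem IsDec.restrict (hd : IsDec Y A B P f) (hQP : Q ≤ P) : IsDec Y A B Q f := by
  obtain ⟨f₁, f₂, h₁, h₂, he⟩ := hd
  exact ⟨f₁, f₂, ⟨h₁.1.restrict (sup_le_sup_right hQP B), h₁.2⟩,
    ⟨h₂.1.restrict (sup_le_sup_right hQP A), h₂.2⟩, fun x hx => he x (hQP hx)⟩

theorem IsDec.conj (h : Pair Y A B) (hP : P ≤ A ⊔ B) {t : Ω} (ht : t ∈ A ⊔ B) :
    IsDec Y A B P (fun x => t * x * t⁻¹) := by
  obtain ⟨t₁, ht₁, t₂, ht₂, rfl⟩ := mem_sup_commuting h.comm ht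
  have hAU := h.closedA.1
  have hBU := h.closedB.1
  have hPU := hP.trans (sup_le hAU hBU)
  refine ⟨fun x => t₁ * x * t₁⁻¹, fun x => t₂ * x * t₂⁻¹,
    ⟨mor_conj (sup_le hPU hBU) (hAU ht₁), fun b hb => ?_⟩,
    ⟨mor_conj (sup_le hPU hAU) (hBU ht₂), fun a ha => ?_⟩, fun x _ => by group⟩
  · show t₁ * b * t₁⁻¹ = b
    rw [h.comm t₁ ht₁ b hb, mul_inv_cancel_right]
  · show t₂ * a * t₂⁻¹ = a
    rw [← h.comm a ha t₂ ht₂, mul_inv_cancel_right]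

theorem IsDec.comp (h : Pair Y A B) (hP : P ≤ A ⊔ B) (hd : IsDec Y A B P f)
    (hd' : IsDec Y A B Q g) (hQ : ∀ x ∈ P, f x ∈ Q) : IsDec Y A B P (g ∘ f) := by
  obtain ⟨f₁, f₂, h₁, h₂, he⟩ := hd
  obtain ⟨g₁, g₂, k₁, k₂, he'⟩ := hd'
  have m₁ : ∀ y ∈ P ⊔ B, f₁ y ∈ Q ⊔ B := fun y hy =>
    h.half_maps hP h₁ h₂ (fun x hx => he x hx ▸ hQ x hx) hy
  have m₂ : ∀ y ∈ P ⊔ A, f₂ y ∈ Q ⊔ A := fun y hy =>
    h.symm.half_maps (sup_comm A B ▸ hP) h₂ h₁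
      (fun x hx => h.half_comm hP h₁ h₂ hx ▸ he x hx ▸ hQ x hx) hy
  have c₁ : Half Y B P (g₁ ∘ f₁) := ⟨h₁.1.comp k₁.1 m₁, fun b hb => by
    show g₁ (f₁ b) = b
    rw [h₁.2 b hb, k₁.2 b hb]⟩
  have c₂ : Half Y A P (g₂ ∘ f₂) := ⟨h₂.1.comp k₂.1 m₂, fun a ha => by
    show g₂ (f₂ a) = a
    rw [h₂.2 a ha, k₂.2 a ha]⟩
  refine ⟨_, _, c₁, c₂, fun x hx => ?_⟩
  obtain ⟨a, ha, b, hb, rfl⟩ := mem_sup_commuting h.comm (hP hx)
  have hfa := mor_mem_closed h.closedA h₁.1 (parts_mem hb hx) ha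
  have hfb := mor_mem_closed h.closedB h₂.1 (parts_mem' ha hx) hb
  have e : f (a * b) = f₁ a * f₂ b := (he _ hx).trans (h.apply h₁ h₂ ha hb hx)
  rw [h.apply c₁ c₂ ha hb hx]
  show g (f (a * b)) = _
  rw [he' _ (hQ _ hx), e, h.apply k₁ k₂ hfa hfb (e ▸ hQ _ hx)]
  rfl

theorem IsDec.inv (h : Pair Y A B) (hP : P ≤ A ⊔ B) (hd : IsDec Y A B P f)
    (hQ : f '' (P : Set Ω) = Q) (hg : ∀ x ∈ P, g (f x) = x) : IsDec Y A B Q g := by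
  obtain ⟨f₁, f₂, h₁, h₂, he⟩ := hd
  have hQ' : (fun x => f₁ (f₂ x)) '' (P : Set Ω) = Q :=
    (Set.image_congr fun x hx => (he x hx).symm).trans hQ
  have hQ'' : (fun x => f₂ (f₁ x)) '' (P : Set Ω) = Q :=
    (Set.image_congr fun x hx => (h.half_comm hP h₁ h₂ hx).symm).trans hQ'
  have i₁ := h.half_image hP h₁ h₂ hQ'
  have i₂ := h.symm.half_image (sup_comm A B ▸ hP) h₂ h₁ hQ''
  obtain ⟨g₁, hg₁, l₁, -, -⟩ := h₁.1.exists_inv i₁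
  obtain ⟨g₂, hg₂, l₂, -, -⟩ := h₂.1.exists_inv i₂
  have k₁ : Half Y B Q g₁ := ⟨hg₁, fun b hb => by
    conv_lhs => rw [← h₁.2 b hb]
    exact l₁ b (Subgroup.mem_sup_right hb)⟩
  have k₂ : Half Y A Q g₂ := ⟨hg₂, fun a ha => by
    conv_lhs => rw [← h₂.2 a ha]
    exact l₂ a (Subgroup.mem_sup_right ha)⟩
  refine ⟨g₁, g₂, k₁, k₂, fun q hq => ?_⟩
  obtain ⟨x, hx, rfl⟩ := hQ.symm.subset hq
  rw [hg x hx]
  obtain ⟨a, ha, b, hb, rfl⟩ := mem_sup_commuting h.comm (hP hx)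
  have hfa := mor_mem_closed h.closedA h₁.1 (parts_mem hb hx) ha
  have hfb := mor_mem_closed h.closedB h₂.1 (parts_mem' ha hx) hb
  have e : f (a * b) = f₁ a * f₂ b := (he _ hx).trans (h.apply h₁ h₂ ha hb hx)
  rw [e, h.apply k₁ k₂ hfa hfb (e ▸ hq), l₁ a (parts_mem hb hx), l₂ b (parts_mem' ha hx)]

/-- The decomposable maps, as a fusion system. -/
def decSys (h : Pair Y A B) (hU : A ⊔ B = U) : Cfsg.FusionSystem U where
  Hom P := {φ | φ ∈ Y.Hom P ∧ ∃ f, (∀ x : P, φ x = f x) ∧ IsDec Y A B P f}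
  le_of_mem := fun hφ => Y.le_of_mem hφ.1
  injective_of_mem := fun hφ => Y.injective_of_mem hφ.1
  conj_mem := fun {P g} hP hg => ⟨Y.conj_mem hP hg, fun x => g * x * g⁻¹, fun _ => rfl,
    IsDec.conj h (hU.symm ▸ hP) (hU.symm ▸ hg)⟩
  comp_mem := fun {P Q φ ψ} hφ hψ hm => by
    obtain ⟨f, hf, hd⟩ := hφ.2
    obtain ⟨g, hg, hd'⟩ := hψ.2
    refine ⟨Y.comp_mem hφ.1 hψ.1 hm, g ∘ f, fun x => ?_,
      hd.comp h (hU.symm ▸ hom_le Y hφ.1) hd' fun x hx => hf ⟨x, hx⟩ ▸ hm ⟨x, hx⟩⟩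
    show ψ ⟨φ x, hm x⟩ = g (f x)
    rw [hg, ← hf]
  inv_mem := fun {P φ} hφ => by
    obtain ⟨f, hf, hd⟩ := hφ.2
    obtain ⟨ψ, hψ, hψe⟩ := Y.inv_mem hφ.1
    obtain ⟨g, hg, hge⟩ := exists_mor hψ
    refine ⟨ψ, ⟨hψ, g, fun x => (hge x).symm, ?_⟩, hψe⟩
    refine hd.inv h (hU.symm ▸ hom_le Y hφ.1) ?_ fun x hx => ?_
    · ext y
      constructor
      · rintro ⟨x, hx, rfl⟩; exact ⟨⟨x, hx⟩, hf ⟨x, hx⟩⟩
      · rintro ⟨x, rfl⟩; exact ⟨x, x.2, (hf x).symm⟩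
    · rw [← hf ⟨x, hx⟩, hge ⟨φ ⟨x, hx⟩, ⟨_, rfl⟩⟩]
      exact hψe ⟨x, hx⟩

theorem decSys_sub (h : Pair Y A B) (hU : A ⊔ B = U) : (decSys h hU).IsSubsystemOf Y :=
  fun _ _ hφ => hφ.1

theorem isDec_of_mem (h : Pair Y A B) (hU : A ⊔ B = U) (hf : Mor (decSys h hU) P f) :
    IsDec Y A B P f := by
  obtain ⟨φ, ⟨-, f', hf', hd⟩, he⟩ := hf
  exact hd.congr fun x hx => (he ⟨x, hx⟩).symm.trans (hf' ⟨x, hx⟩)

theorem mem_of_isDec (h : Pair Y A B) (hU : A ⊔ B = U) (hf : Mor Y P f)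
    (hd : IsDec Y A B P f) : Mor (decSys h hU) P f := by
  obtain ⟨φ, hφ, he⟩ := hf
  exact ⟨φ, ⟨hφ, f, he, hd⟩, he⟩

end CfsgLib.Comp89
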