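import Cfsg.Agent.Fus.Comp89.Decomp
import Cfsg.Agent.Fus.Invariant
import Cfsg.Agent.Fus.CentricExtension

/-!
Systems split along two commuting strongly closed subgroups: the full subsystem on one factor is
saturated, and slices of normal pairs form normal pairs.
-/

set_option autoImplicit false

namespace CfsgLib.Comp89

open Cfsg Cfsg.FusionSystem CfsgLib.Fus
open CfsgLib.Fus.PPrimeExist (mem_sup_commuting onT)

variable {Ω : Type*} [Group Ω] {S₁ S₂ T U : Subgroup Ω} {p : ℕ}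

/-- `U` meets the two ambient subgroups in commuting strongly closed subgroups. -/
structure Amb (S₁ S₂ : Subgroup Ω) (Y : Cfsg.FusionSystem U) : Prop where
  closed₁ : Y.StronglyClosed (U ⊓ S₁)
  closed₂ : Y.StronglyClosed (U ⊓ S₂)
  comm : ∀ a ∈ S₁, ∀ b ∈ S₂, a * b = b * a

theorem Amb.pair {Y : Cfsg.FusionSystem U} (h : Amb S₁ S₂ Y) : Pair Y (U ⊓ S₁) (U ⊓ S₂) :=
  ⟨h.closed₁, h.closed₂, fun a ha b hb => h.comm a ha.2 b hb.2⟩

theorem Amb.symm {Y : Cfsg.FusionSystem U} (h : Amb S₁ S₂ Y) : Amb S₂ S₁ Y :=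
  ⟨h.closed₂, h.closed₁, fun b hb a ha => (h.comm a ha b hb).symm⟩

theorem Amb.sub {Y : Cfsg.FusionSystem U} {X : Cfsg.FusionSystem T} (h : Amb S₁ S₂ Y)
    (hXY : X.IsSubsystemOf Y) : Amb S₁ S₂ X := by
  have hTU : T ≤ U := hom_le Y (hXY T (subtype_mem X le_rfl))
  have key : ∀ K : Subgroup Ω, Y.StronglyClosed (U ⊓ K) → X.StronglyClosed (T ⊓ K) := fun K hK =>
    ⟨inf_le_left, fun R hR φ hφ x => ⟨hom_mem X hφ x,
      (hK.2 R (hR.trans (inf_le_inf_right K hTU)) φ (hXY R hφ) x).2⟩⟩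
  exact ⟨key S₁ h.closed₁, key S₂ h.closed₂, h.comm⟩

/-- The system is a product of its two slices. -/
structure Split (S₁ S₂ : Subgroup Ω) (Y : Cfsg.FusionSystem U) : Prop where
  amb : Amb S₁ S₂ Y
  sup : (U ⊓ S₁) ⊔ (U ⊓ S₂) = U
  dec : ∀ P f, Mor Y P f → IsDec Y (U ⊓ S₁) (U ⊓ S₂) P f

theorem Split.symm {Y : Cfsg.FusionSystem U} (h : Split S₁ S₂ Y) : Split S₂ S₁ Y :=
  ⟨h.amb.symm, (sup_comm _ _).trans h.sup, fun P f hf =>
    (h.dec P f hf).symm h.amb.pair (h.sup.symm ▸ hf.le)⟩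

/-- The full subsystem on the first factor. -/
def slice {Y : Cfsg.FusionSystem U} (h : Amb S₁ S₂ Y) : Cfsg.FusionSystem (U ⊓ S₁) :=
  onT Y h.closed₁

variable [Finite U] [Fact p.Prime]

/-- The slice is saturated. -/
theorem slice_saturated (hU : IsPGroup p U) {Y : Cfsg.FusionSystem U} (hY : Y.IsSaturated p)
    (h : Split S₁ S₂ Y) : (slice h.amb).IsSaturated p := by
  set A := U ⊓ S₁ with hA
  set B := U ⊓ S₂ with hB
  have hAU : A ≤ U := inf_le_left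
  intro P hP
  obtain ⟨Q, ⟨φ, hφ, hr⟩, hQ⟩ := exists_fullyNormalized Y (hP.trans hAU)
  have hQA : Q ≤ A := by
    rw [← hr]
    rintro _ ⟨x, rfl⟩
    exact h.amb.closed₁.2 P hP φ hφ x
  obtain ⟨hfa, hrec⟩ := fullyNormalized_props hU hY hQ
  refine ⟨Q, ⟨φ, ⟨hP, hφ⟩, hr⟩, ?_, hQA, fun R θ hθ hθr => ?_⟩
  · obtain ⟨-, K, hK⟩ := hfa
    have e₁ : (slice h.amb).autGroup Q = Y.autGroup Q := by
      have hs : (slice h.amb).IsSubsystemOf Y := fun _ _ hψ => hψ.2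
      refine le_antisymm (autGroup_mono hs Q) fun a ha => ?_
      exact mem_autGroup_of_mem _ ⟨hQA, (mem_autGroup_iff Y hQ.1).1 ha⟩
    have e₂ : Cfsg.autInducedBy A Q = Cfsg.autInducedBy U Q := by
      refine le_antisymm (autInducedBy_mono hAU) fun a ha => ?_
      obtain ⟨g, hg, hga⟩ := mem_autInducedBy_iff.1 ha
      obtain ⟨a₁, ha₁, b₁, hb₁, rfl⟩ :=
        mem_sup_commuting h.amb.pair.comm (h.sup.symm.le hg)
      refine mem_autInducedBy_iff.2 ⟨a₁, ha₁, fun x => ?_⟩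
      rw [hga x]
      have hc : b₁ * (x : Ω) = (x : Ω) * b₁ := (h.amb.pair.comm x (hQA x.2) b₁ hb₁).symm
      calc a₁ * b₁ * (x : Ω) * (a₁ * b₁)⁻¹ = a₁ * (b₁ * (x : Ω)) * b₁⁻¹ * a₁⁻¹ := by group
        _ = a₁ * ((x : Ω) * b₁) * b₁⁻¹ * a₁⁻¹ := by rw [hc]
        _ = a₁ * (x : Ω) * a₁⁻¹ := by group
    refine ⟨hQA, ?_⟩
    rw [e₁, e₂]
    exact ⟨K, hK⟩
  · obtain ⟨ψ, hψ, hψe⟩ := hrec.2 R θ hθ.2 hθr
    have hle : extender A R θ ≤ extender U R θ :=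
      Subgroup.closure_mono fun g hg => ⟨hAU hg.1, hg.2.1, by
        obtain ⟨k, hk, hk'⟩ := hg.2.2
        exact ⟨k, hAU hk, hk'⟩⟩
    have hleA : extender A R θ ≤ A := (Subgroup.closure_le _).2 fun g hg => hg.1
    exact ⟨_, ⟨hleA, restrict_mem Y hψ hle⟩, fun x hx hx' => hψe x hx _⟩

omit [Finite U] [Fact p.Prime] in
theorem slice_sub {Y : Cfsg.FusionSystem U} {X : Cfsg.FusionSystem T} (hY : Amb S₁ S₂ Y)
    (hXY : X.IsSubsystemOf Y) : (slice (hY.sub hXY)).IsSubsystemOf (slice hY) := fun P φ hφ =>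
  ⟨hφ.1.trans (inf_le_inf_right S₁ (hom_le Y (hXY T (subtype_mem X le_rfl)))), hXY P hφ.2⟩

/-- Slices of a normal pair of split systems form a normal pair. -/
theorem slice_normal (hU : IsPGroup p U) {Y : Cfsg.FusionSystem U} {X : Cfsg.FusionSystem T}
    (hXY : X.IsNormalIn Y p) (hY : Split S₁ S₂ Y) (hX : Split S₁ S₂ X) :
    (slice hX.amb).IsNormalIn (slice hY.amb) p := by
  obtain ⟨⟨hXs, hYs, hinv⟩, hext⟩ := hXY
  have hTU : T ≤ U := hinv.2.1.1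
  have : Finite T := finite_of_le hTU
  have : Finite ↥(U ⊓ S₁) := finite_of_le inf_le_left
  have : Finite ↥(T ⊓ S₁) := finite_of_le (inf_le_left : T ⊓ S₁ ≤ T)
  set A := T ⊓ S₁ with hA
  set A' := U ⊓ S₁ with hA'
  have hAA : A ≤ A' := inf_le_inf_right S₁ hTU
  have hY1 := slice_saturated hU hYs hY
  have hsub : (slice hX.amb).IsSubsystemOf (slice hY.amb) := slice_sub hY.amb hinv.1
  have hcl : (slice hY.amb).StronglyClosed A :=
    ⟨hAA, fun R hR φ hφ x => ⟨hinv.2.1.2 R (hR.trans inf_le_left) φ hφ.2 x,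
      (hY.amb.closed₁.2 R hφ.1 φ hφ.2 x).2⟩⟩
  refine ⟨⟨slice_saturated (hU.to_le hTU) hXs hX, hY1, ?_⟩, ?_⟩
  · refine (invariant_iff_strong (hU.to_le inf_le_left) hY1 hsub hcl).2 ?_
    intro P Q hPQ hQA φ hφ hφQ ψ hψ
    obtain ⟨χ, hχ, hχe⟩ := strong_of_invariant hTU hinv P Q hPQ (hQA.trans inf_le_left) φ hφ.2
      hφQ ψ hψ.2
    refine ⟨χ, ⟨?_, hχ⟩, hχe⟩
    rintro _ ⟨x, -, rfl⟩
    exact hcl.2 Q hQA ψ hψ x
  · intro α hα
    have hα' := (mem_autGroup_iff (slice hX.amb) le_rfl).1 hα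
    obtain ⟨f, hf, hfe⟩ := exists_mor hα'.2
    obtain ⟨f₁, f₂, ⟨hf₁, hf₁B⟩, ⟨hf₂, hf₂A⟩, he⟩ := hX.dec A f hf
    have hsT : A ⊔ (T ⊓ S₂) = T := hX.sup
    obtain ⟨R, hR, hRT⟩ := hf₁.exists_img hsT.ge
    obtain ⟨a, hae⟩ : ∃ a : X.autGroup T, ∀ x : T, (((a : MulAut T) x : T) : Ω) = f₁ x := by
      refine exists_aut_of_mor (hf₁.restrict hsT.ge) ?_
      rw [hR]
      exact congrArg _ (Subgroup.eq_of_le_of_card_ge hRT ((hf₁.card_img hsT.ge hR).ge))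
    obtain ⟨β, hβ, hβT, hβC⟩ := hext _ a.2
    obtain ⟨g, hg, hge⟩ := exists_mor ((mem_autGroup_iff Y (sup_le hTU (centralizerIn_le T))).1 hβ)
    have hCC : centralizerIn A' A ≤ centralizerIn U T := fun c hc => ⟨hc.1.1, fun t ht => by
      obtain ⟨r, hr, s, hs, rfl⟩ := mem_sup_commuting hX.amb.pair.comm (hsT.symm.le ht)
      rw [mul_assoc, ← hY.amb.comm c hc.1.2 s hs.2, ← mul_assoc, hc.2 r hr, mul_assoc]⟩
    have hdom : A ⊔ centralizerIn A' A ≤ T ⊔ centralizerIn U T := sup_le_sup inf_le_left hCC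
    have hgA : ∀ x : A, g x = ((α x : A) : Ω) := fun x => by
      have hxT : (x : Ω) ∈ T := x.2.1
      have hx2 : f₂ (x : Ω) = (x : Ω) := hf₂A x x.2
      calc g x = f₁ x := (hge ⟨x, Subgroup.mem_sup_left hxT⟩).trans
            ((hβT ⟨x, hxT⟩).trans (hae ⟨x, hxT⟩))
        _ = f₁ (f₂ x) := by rw [hx2]
        _ = f x := (he x x.2).symm
        _ = ((α x : A) : Ω) := hfe x
    have hgA' : ∀ c ∈ A', c ∈ T ⊔ centralizerIn U T → g c ∈ A' := fun c hc hcd =>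
      mor_mem_closed hY.amb.closed₁ hg hcd hc
    have hgC : ∀ c ∈ centralizerIn A' A,
        c⁻¹ * g c ∈ A ⊓ Subgroup.centralizer (A : Set Ω) := by
      intro c hc
      have hcd : c ∈ T ⊔ centralizerIn U T := Subgroup.mem_sup_right (hCC hc)
      have hz := hβC ⟨c, hcd⟩ (hCC hc)
      rw [show ((β ⟨c, hcd⟩ : ↥(T ⊔ centralizerIn U T)) : Ω) = g c from (hge ⟨c, hcd⟩).symm] at hz
      exact ⟨⟨hz.1, (A'.mul_mem (A'.inv_mem hc.1) (hgA' c hc.1 hcd)).2⟩,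
        fun y hy => hz.2 y hy.1⟩
    obtain ⟨W, hW, -⟩ := hg.exists_img hdom
    have hWD : W ≤ A ⊔ centralizerIn A' A := fun y hy => by
      obtain ⟨x, hx, rfl⟩ := hW.symm.subset hy
      refine mor_mem_of_sup (hg.restrict hdom) (fun x hx => ?_) (fun c hc => ?_) hx
      · rw [hgA ⟨x, hx⟩]
        exact Subgroup.mem_sup_left (α ⟨x, hx⟩).2
      · rw [show g c = c * (c⁻¹ * g c) by group]
        exact mul_mem (Subgroup.mem_sup_right hc) (Subgroup.mem_sup_left (hgC c hc).1)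
    have : Finite ↥(A ⊔ centralizerIn A' A) := finite_of_le (sup_le hAA (centralizerIn_le A))
    obtain ⟨⟨b, hb⟩, hbe⟩ : ∃ b : Y.autGroup (A ⊔ centralizerIn A' A),
        ∀ x : ↥(A ⊔ centralizerIn A' A),
          (((b : MulAut _) x : ↥(A ⊔ centralizerIn A' A)) : Ω) = g x := by
      refine exists_aut_of_mor (hg.restrict hdom) ?_
      rw [hW]
      exact congrArg _ (Subgroup.eq_of_le_of_card_ge hWD (hg.card_img hdom hW).ge)
    refine ⟨b, mem_autGroup_of_mem _ ⟨sup_le hAA (centralizerIn_le A),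
      (mem_autGroup_iff Y ((sup_le hAA (centralizerIn_le A)).trans inf_le_left)).1 hb⟩,
      fun x => (hbe _).trans (hgA x), fun c hc => ?_⟩
    rw [hbe]
    exact hgC c hc

end CfsgLib.Comp89
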