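import Cfsg.Agent.Fus.Comp89.Steps
import Cfsg.Agent.Fus.Comp89.Slice
import Cfsg.Agent.Fus.CentricMaps

/-!
A stable normal subsystem of a split system is split.
-/

set_option autoImplicit false

namespace CfsgLib.Comp89

open Cfsg Cfsg.FusionSystem CfsgLib.Fus
open CfsgLib.Fus.PPrimeExist (mem_sup_commuting)

variable {Ω : Type*} [Group Ω] {S₁ S₂ T U : Subgroup Ω} {p : ℕ}

theorem mor_eq_on_sup {F : Cfsg.FusionSystem U} {G : Cfsg.FusionSystem T} {M N : Subgroup Ω} {f g : Ω → Ω}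
    (hf : Mor F (M ⊔ N) f) (hg : Mor G (M ⊔ N) g) (hM : ∀ x ∈ M, f x = g x)
    (hN : ∀ x ∈ N, f x = g x) {y : Ω} (hy : y ∈ M ⊔ N) : f y = g y := by
  let K : Subgroup Ω :=
    { carrier := {y | y ∈ M ⊔ N ∧ f y = g y}
      one_mem' := ⟨one_mem _, hM 1 (one_mem _)⟩
      mul_mem' := fun {a b} ha hb => ⟨mul_mem ha.1 hb.1, by
        rw [hf.map_mul ha.1 hb.1, hg.map_mul ha.1 hb.1, ha.2, hb.2]⟩
      inv_mem' := fun {a} ha => ⟨inv_mem ha.1, by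
        rw [hf.map_inv ha.1, hg.map_inv ha.1, ha.2]⟩ }
  have h : M ⊔ N ≤ K := sup_le (fun x hx => ⟨Subgroup.mem_sup_left hx, hM x hx⟩)
    fun x hx => ⟨Subgroup.mem_sup_right hx, hN x hx⟩
  exact (h hy).2

/-- Transport of a map by a map of the larger system. -/
theorem mor_transport {Y : Cfsg.FusionSystem U} {X : Cfsg.FusionSystem T}
    (hX : X.IsInvariantIn Y) {M M' : Subgroup Ω} {f g : Ω → Ω} (hf : Mor X M f)
    (hfM : ∀ x ∈ M, f x ∈ M) (hg : Mor Y M g) (hM : g '' (M : Set Ω) = M') :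
    ∃ h, Mor X M' h ∧ ∀ x ∈ M, h (g x) = g (f x) := by
  have hMT := hf.le
  obtain ⟨φ, hφ, hφe⟩ := hf
  obtain ⟨ψ, hψ, hψe⟩ := hg
  obtain ⟨χ, hχ, hχe⟩ := strong_of_invariant hX.2.1.1 hX M M le_rfl hMT φ hφ
    (fun x => hφe x ▸ hfM x x.2) ψ hψ
  obtain ⟨h, hh, hhe⟩ := exists_mor hχ
  have e : (M.subgroupOf M).map ψ = M' := SetLike.coe_injective (by
    rw [← hM]
    ext y
    constructor
    · rintro ⟨x, -, rfl⟩; exact ⟨x, x.2, (hψe x).symm⟩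
    · rintro ⟨x, hx, rfl⟩; exact ⟨⟨x, hx⟩, hx, hψe _⟩)
  refine ⟨h, e ▸ hh, fun x hx => ?_⟩
  have hm : ψ ⟨x, hx⟩ ∈ (M.subgroupOf M).map ψ := ⟨⟨x, hx⟩, hx, rfl⟩
  have h1 := hχe ⟨x, hx⟩ hm
  have h2 := hhe ⟨_, hm⟩
  rw [show g x = ψ ⟨x, hx⟩ from (hψe ⟨x, hx⟩).symm]
  refine h2.trans (h1.trans ?_)
  show ψ ⟨φ ⟨x, hx⟩, _⟩ = g (f x)
  rw [hψe]
  show g (φ ⟨x, hx⟩) = _
  rw [hφe]

variable [Finite U] [Fact p.Prime]

/-- The base of a stable normal subsystem of a split system is split. -/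
theorem split_sup {Y : Cfsg.FusionSystem U} {X : Cfsg.FusionSystem T}
    (hY : Split S₁ S₂ Y) (hX : X.IsInvariantIn Y) (hst : X.hyperfocalSubgroup p = T) :
    (T ⊓ S₁) ⊔ (T ⊓ S₂) = T := by
  refine le_antisymm (sup_le inf_le_left inf_le_left) ?_
  conv_lhs => rw [← hst]
  refine hyperfocal_le_iff_displ X fun P hP a ha _ x => ?_
  obtain ⟨f, hf, hfe⟩ := exists_mor ((mem_autGroup_iff Y (hP.trans hX.2.1.1)).1
    (autGroup_mono hX.1 P ha))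
  obtain ⟨f₁, f₂, h₁, h₂, he⟩ := hY.dec P f hf
  have hsY := hY.amb.pair
  have hxU : (x : Ω) ∈ U := hX.2.1.1 (hP x.2)
  obtain ⟨a₁, ha₁, b₁, hb₁, hx⟩ := mem_sup_commuting hsY.comm (hY.sup.symm.le hxU)
  have hab : a₁ * b₁ ∈ P := hx ▸ x.2
  have haP := parts_mem hb₁ hab
  have hbP := parts_mem' ha₁ hab
  have k₁ : a₁⁻¹ * f₁ a₁ ∈ T ⊓ S₁ := by
    refine ⟨?_, mul_mem (S₁.inv_mem ha₁.2) (mor_mem_closed hsY.closedA h₁.1 haP ha₁).2⟩
    have h3 := mor_mem_closed hX.2.1 h₁.1 (Subgroup.mem_sup_left x.2) (hP x.2)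
    have h4 := mul_mem (T.inv_mem (hP x.2)) h3
    rw [hx, h₁.1.map_mul haP (Subgroup.mem_sup_right hb₁), h₁.2 b₁ hb₁] at h4
    have hfa := mor_mem_closed hsY.closedA h₁.1 haP ha₁
    rwa [show (a₁ * b₁)⁻¹ * (f₁ a₁ * b₁) = b₁⁻¹ * ((a₁⁻¹ * f₁ a₁) * b₁) by group,
      hsY.comm _ (mul_mem ((U ⊓ S₁).inv_mem ha₁) hfa) b₁ hb₁, inv_mul_cancel_left] at h4
  have k₂ : b₁⁻¹ * f₂ b₁ ∈ T ⊓ S₂ := by
    refine ⟨?_, mul_mem (S₂.inv_mem hb₁.2) (mor_mem_closed hsY.closedB h₂.1 hbP hb₁).2⟩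
    have h3 := mor_mem_closed hX.2.1 h₂.1 (Subgroup.mem_sup_left x.2) (hP x.2)
    have h4 := mul_mem (T.inv_mem (hP x.2)) h3
    rw [hx, h₂.1.map_mul (Subgroup.mem_sup_right ha₁) hbP, h₂.2 a₁ ha₁] at h4
    rwa [show (a₁ * b₁)⁻¹ * (a₁ * f₂ b₁) = b₁⁻¹ * f₂ b₁ by group] at h4
  have e : ((a x : P) : Ω) = f₁ a₁ * f₂ b₁ := by
    rw [← hsY.apply h₁ h₂ ha₁ hb₁ hab, ← hx, ← he _ x.2, hfe]
    rfl
  have hc : b₁⁻¹ * (a₁⁻¹ * f₁ a₁) = (a₁⁻¹ * f₁ a₁) * b₁⁻¹ :=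
    (hY.amb.comm _ k₁.2 _ (S₂.inv_mem hb₁.2)).symm
  rw [e, hx, show (a₁ * b₁)⁻¹ * (f₁ a₁ * f₂ b₁) = b₁⁻¹ * (a₁⁻¹ * f₁ a₁) * f₂ b₁ by group, hc,
    mul_assoc]
  exact mul_mem (Subgroup.mem_sup_left k₁) (Subgroup.mem_sup_right k₂)

/-- Conjugation by maps of a split system preserves decomposable automorphisms. -/
theorem dec_congr {Y : Cfsg.FusionSystem U} {X : Cfsg.FusionSystem T} (hY : Split S₁ S₂ Y)
    (hX : X.IsInvariantIn Y) (hp : Pair X (T ⊓ S₁) (T ⊓ S₂))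
    (hs : (T ⊓ S₁) ⊔ (T ⊓ S₂) = T) {P Q : Subgroup Ω} (hP : P ≤ T) {φ : P →* Ω}
    (hφ : φ ∈ Y.Hom P) (hr : φ.range = Q) {α : MulAut P} (hα : α ∈ (decSys hp hs).autGroup P) :
    MulAut.congr (isoOf hφ hr) α ∈ (decSys hp hs).autGroup Q := by
  have hTU := hX.2.1.1
  have : Finite T := finite_of_le hTU
  obtain ⟨f, hf, hfe, hfP⟩ := exists_mor_of_aut (F := decSys hp hs) hP ⟨α, hα⟩
  obtain ⟨f₁, f₂, h₁, h₂, he⟩ := isDec_of_mem hp hs hf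
  obtain ⟨g, hg, hge⟩ := exists_mor hφ
  obtain ⟨g₁, g₂, k₁', k₂', he'⟩ := hY.dec P g hg
  set A := T ⊓ S₁ with hA
  set B := T ⊓ S₂ with hB
  have hpY : Pair Y A B := ⟨⟨inf_le_left.trans hTU, fun R hR ψ hψ x =>
      ⟨hX.2.1.2 R (hR.trans inf_le_left) ψ hψ x,
        (hY.amb.closed₁.2 R (hR.trans (inf_le_inf_right S₁ hTU)) ψ hψ x).2⟩⟩,
    ⟨inf_le_left.trans hTU, fun R hR ψ hψ x => ⟨hX.2.1.2 R (hR.trans inf_le_left) ψ hψ x,
        (hY.amb.closed₂.2 R (hR.trans (inf_le_inf_right S₂ hTU)) ψ hψ x).2⟩⟩, hp.comm⟩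
  have k₁ : Half Y B P g₁ := ⟨k₁'.1.restrict (sup_le_sup_left (inf_le_inf_right S₂ hTU) P),
    fun b hb => k₁'.2 b ⟨hTU hb.1, hb.2⟩⟩
  have k₂ : Half Y A P g₂ := ⟨k₂'.1.restrict (sup_le_sup_left (inf_le_inf_right S₁ hTU) P),
    fun b hb => k₂'.2 b ⟨hTU hb.1, hb.2⟩⟩
  have hPs : P ≤ A ⊔ B := hs.symm ▸ hP
  have hgQ : g '' (P : Set Ω) = Q := by
    rw [← hr]
    ext y
    constructor
    · rintro ⟨x, hx, rfl⟩; exact ⟨⟨x, hx⟩, (hge ⟨x, hx⟩).symm⟩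
    · rintro ⟨x, rfl⟩; exact ⟨x, x.2, hge x⟩
  have hQ' : (fun x => g₁ (g₂ x)) '' (P : Set Ω) = Q :=
    (Set.image_congr fun x hx => (he' x hx).symm).trans hgQ
  have hQ'' : (fun x => g₂ (g₁ x)) '' (P : Set Ω) = Q :=
    (Set.image_congr fun x hx => (hpY.half_comm hPs k₁ k₂ hx).symm).trans hQ'
  have i₁ := hpY.half_image hPs k₁ k₂ hQ'
  have i₂ := hpY.symm.half_image (sup_comm A B ▸ hPs) k₂ k₁ hQ''
  have hPP : ∀ x ∈ P, f₁ (f₂ x) ∈ P := fun x hx => he x hx ▸ hfP.subset ⟨x, hx, rfl⟩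
  have hPP' : ∀ x ∈ P, f₂ (f₁ x) ∈ P := fun x hx => hp.half_comm hPs h₁ h₂ hx ▸ hPP x hx
  obtain ⟨u₁, hu₁, e₁⟩ := mor_transport hX h₁.1
    (fun x hx => hp.half_maps hPs h₁ h₂ hPP hx) k₁.1 i₁
  obtain ⟨u₂, hu₂, e₂⟩ := mor_transport hX h₂.1
    (fun x hx => hp.symm.half_maps (sup_comm A B ▸ hPs) h₂ h₁ hPP' hx) k₂.1 i₂
  have l₁ : Half X B Q u₁ := ⟨hu₁, fun b hb => by
    have h3 := e₁ b (Subgroup.mem_sup_right hb)
    rwa [h₁.2 b hb, k₁.2 b hb] at h3⟩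
  have l₂ : Half X A Q u₂ := ⟨hu₂, fun a ha => by
    have h3 := e₂ a (Subgroup.mem_sup_right ha)
    rwa [h₂.2 a ha, k₂.2 a ha] at h3⟩
  have hQT : Q ≤ T := fun q hq => by
    obtain ⟨x, hx, rfl⟩ := hgQ.symm.subset hq
    exact mor_mem_closed hX.2.1 hg hx (hP hx)
  have hu₂Q : ∀ q ∈ Q, u₂ q ∈ Q ⊔ B := fun q hq => by
    obtain ⟨a, ha, b, hb, rfl⟩ := mem_sup_commuting hp.comm (hs.symm.le (hQT hq))
    rw [hu₂.map_mul (Subgroup.mem_sup_right ha) (parts_mem' ha hq), l₂.2 a ha]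
    exact mul_mem (parts_mem hb hq)
      (Subgroup.mem_sup_right (mor_mem_closed hp.closedB hu₂ (parts_mem' ha hq) hb))
  have hu : Mor X Q (u₁ ∘ u₂) := (hu₂.restrict le_sup_left).comp hu₁ hu₂Q
  have hd : Mor (decSys hp hs) Q (u₁ ∘ u₂) :=
    mem_of_isDec hp hs hu ⟨u₁, u₂, l₁, l₂, fun _ _ => rfl⟩
  refine mem_autGroup_of_mor hd fun q => ?_
  obtain ⟨x, rfl⟩ := (isoOf hφ hr).surjective q
  rw [show MulAut.congr (isoOf hφ hr) α (isoOf hφ hr x) = isoOf hφ hr (α x) from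
    congrArg (fun t => isoOf hφ hr (α t)) ((isoOf hφ hr).symm_apply_apply x), isoOf_apply,
    isoOf_apply]
  obtain ⟨a, ha, b, hb, hx⟩ := mem_sup_commuting hp.comm (hs.symm.le (hP x.2))
  have hab : a * b ∈ P := hx ▸ x.2
  have hga := mor_mem_closed hpY.closedA k₁.1 (parts_mem hb hab) ha
  have hgb := mor_mem_closed hpY.closedB k₂.1 (parts_mem' ha hab) hb
  have e3 : φ x = g₁ a * g₂ b := by
    rw [← hge, he' _ x.2, hx, hpY.apply k₁ k₂ ha hb hab]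
  have hgab : g₁ a * g₂ b ∈ Q := e3 ▸ hr.le ⟨x, rfl⟩
  have hfab : f₁ a * f₂ b ∈ P := hp.apply h₁ h₂ ha hb hab ▸ hPP _ hab
  rw [show (u₁ ∘ u₂) (φ x) = u₁ (u₂ (φ x)) from rfl, e3, hp.apply l₁ l₂ hga hgb hgab,
    e₁ a (parts_mem hb hab), e₂ b (parts_mem' ha hab), ← hge]
  have e4 : ((α x : P) : Ω) = f₁ a * f₂ b := by
    rw [← hp.apply h₁ h₂ ha hb hab, ← hx, ← he _ x.2, hfe]
  rw [e4, he' _ hfab, hpY.apply k₁ k₂ (mor_mem_closed hp.closedA h₁.1 (parts_mem hb hab) ha)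
    (mor_mem_closed hp.closedB h₂.1 (parts_mem' ha hab) hb) hfab]

/-- The parts of a normalizing element of a split subgroup normalize it. -/
theorem normalizer_part {X : Cfsg.FusionSystem T} {A B R : Subgroup Ω} (hp : Pair X A B)
    (hRs : R ≤ (R ⊓ A) ⊔ (R ⊓ B)) {n a b : Ω}
    (hn : n ∈ normalizerIn T R) (ha : a ∈ A) (hb : b ∈ B) (e : n = a * b) :
    a ∈ normalizerIn T R := by
  have key : ∀ {n a b : Ω}, n ∈ normalizerIn T R → a ∈ A → b ∈ B → n = a * b →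
      ∀ r ∈ R, a * r * a⁻¹ ∈ R := by
    intro n a b hn ha hb e r hr
    obtain ⟨r₁, hr₁, r₂, hr₂, rfl⟩ := mem_sup_commuting
      (P := R ⊓ A) (C := R ⊓ B) (fun x hx y hy => hp.comm x hx.2 y hy.2) (hRs hr)
    have e₁ : a * r₁ * a⁻¹ = n * r₁ * n⁻¹ := by
      have hc : b * r₁ = r₁ * b := (hp.comm r₁ hr₁.2 b hb).symm
      rw [e]
      calc a * r₁ * a⁻¹ = a * (r₁ * b) * b⁻¹ * a⁻¹ := by group
        _ = a * (b * r₁) * b⁻¹ * a⁻¹ := by rw [hc]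
        _ = a * b * r₁ * (a * b)⁻¹ := by group
    have e₂ : a * r₂ * a⁻¹ = r₂ := by rw [hp.comm a ha r₂ hr₂.2, mul_inv_cancel_right]
    rw [show a * (r₁ * r₂) * a⁻¹ = (a * r₁ * a⁻¹) * (a * r₂ * a⁻¹) by group, e₁, e₂]
    exact mul_mem (conj_mem_of_normalizer hn.2 hr₁.1) hr₂.1
  refine ⟨hp.closedA.1 ha, Subgroup.mem_normalizer_iff.2 fun r =>
    ⟨fun hr => key hn ha hb e r hr, fun hr => ?_⟩⟩
  have hc : b⁻¹ * a⁻¹ = a⁻¹ * b⁻¹ :=
    (hp.comm a⁻¹ (A.inv_mem ha) b⁻¹ (B.inv_mem hb)).symm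
  have h3 := key ((normalizerIn T R).inv_mem hn) (A.inv_mem ha) (B.inv_mem hb)
    (by rw [e, mul_inv_rev, hc]) _ hr
  rwa [show a⁻¹ * (a * r * a⁻¹) * a⁻¹⁻¹ = r by group] at h3

/-- Extension of a half to the normalizer of `R`. -/
theorem half_ext [Finite T] (hT : IsPGroup p T) {Y : Cfsg.FusionSystem U}
    {X : Cfsg.FusionSystem T} (hX : X.IsSaturated p) (hTc : Y.StronglyClosed T)
    {R C : Subgroup Ω} {g : Ω → Ω} (hR : X.IsCentric R) (hC : X.StronglyClosed C)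
    (hg : Mor X (R ⊔ C) g) (hgY : Mor Y T g) :
    ∃ τ, Mor X (normalizerIn T R ⊔ C) τ ∧ ∀ x ∈ R ⊔ C, τ x = g x := by
  set N := normalizerIn T R with hN
  set M := R ⊔ C with hM
  have hCT := hC.1
  have hnC := Fusion.Alperin.le_normalizer_of_stronglyClosed hC
  have hMT : M ≤ T := sup_le hR.1 hCT
  have hMc : X.IsCentric M := isCentric_of_le hR le_sup_left hMT
  obtain ⟨M', hM', -⟩ := hg.exists_img (le_refl M)
  have hM'c : X.IsCentric M' := isCentric_of_isConj hMc (hg.isConj hM')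
  have hrec := receptive_of_fullyCentralized hT hX (isFullyCentralized_of_centric hM'c)
  have hconj : ∀ x ∈ N, ∀ y ∈ M, x * y * x⁻¹ ∈ M := fun x hx y hy =>
    mor_mem_of_sup (mor_conj (F := X) hMT hx.1)
      (fun r hr => Subgroup.mem_sup_left (conj_mem_of_normalizer hx.2 hr))
      (fun c hc => Subgroup.mem_sup_right (conj_mem_of_normalizer (hnC hx.1) hc)) hy
  have hNM : N ⊔ C ≤ normalizerIn T M := by
    refine sup_le (fun x hx => ⟨hx.1, Subgroup.mem_normalizer_iff.2 fun y =>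
      ⟨fun hy => hconj x hx y hy, fun hy => ?_⟩⟩) fun c hc =>
      ⟨hCT hc, Subgroup.le_normalizer (Subgroup.mem_sup_right hc)⟩
    have h3 := hconj x⁻¹ (N.inv_mem hx) _ hy
    rwa [show x⁻¹ * (x * y * x⁻¹) * x⁻¹⁻¹ = y by group] at h3
  exact hg.exists_ext hM' hrec (sup_le_sup_right (le_normalizerIn hR.1) C) hNM fun l hl =>
    ⟨g l, mor_mem_closed hTc hgY (hNM hl).1 (hNM hl).1, fun x hx =>
      hgY.map_conj (hNM hl).1 (hMT hx)⟩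

/-- One climbing step for the first half. -/
theorem climb_half [Finite T] (hT : IsPGroup p T) {Y : Cfsg.FusionSystem U}
    {X : Cfsg.FusionSystem T} (hX : X.IsSaturated p) (hTc : Y.StronglyClosed T) {A B : Subgroup Ω}
    (hp : Pair X A B) (hs : A ⊔ B = T) {f g₁ g₂ : Ω → Ω} (hf : Mor X T f)
    (hg₁ : Mor Y T g₁) (hg₁' : ∀ b ∈ B, g₁ b = b) (hg₂ : Mor Y T g₂)
    (hg₂' : ∀ a ∈ A, g₂ a = a) (he : ∀ x ∈ T, f x = g₁ (g₂ x)) {R : Subgroup Ω}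
    (hR : X.IsCentric R) (hRs : R ≤ (R ⊓ A) ⊔ (R ⊓ B))
    (h₁ : Mor X (R ⊔ B) g₁) (h₂ : Mor X (R ⊔ A) g₂) :
    Mor X (normalizerIn T R ⊔ B) g₁ := by
  set N := normalizerIn T R with hN
  have hNT : N ≤ T := normalizerIn_le R
  have hRN : R ≤ N := le_normalizerIn hR.1
  obtain ⟨τ₁, hτ₁, hτ₁e⟩ := half_ext hT hX hTc hR hp.closedB h₁ hg₁
  obtain ⟨τ₂, hτ₂, hτ₂e⟩ := half_ext hT hX hTc hR hp.closedA h₂ hg₂
  have t₁ : Half X B N τ₁ :=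
    ⟨hτ₁, fun b hb => (hτ₁e b (Subgroup.mem_sup_right hb)).trans (hg₁' b hb)⟩
  have t₂ : Half X A N τ₂ :=
    ⟨hτ₂, fun a ha => (hτ₂e a (Subgroup.mem_sup_right ha)).trans (hg₂' a ha)⟩
  have hτN : ∀ x ∈ N, τ₂ x ∈ N ⊔ B := fun x hx => by
    obtain ⟨a, ha, b, hb, rfl⟩ := mem_sup_commuting hp.comm (hs.symm.le (hNT hx))
    rw [hτ₂.map_mul (Subgroup.mem_sup_right ha) (parts_mem' ha hx), t₂.2 a ha]
    exact mul_mem (parts_mem hb hx)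
      (Subgroup.mem_sup_right (mor_mem_closed hp.closedB hτ₂ (parts_mem' ha hx) hb))
  have hF : Mor X N (τ₁ ∘ τ₂) := (hτ₂.restrict le_sup_left).comp hτ₁ hτN
  obtain ⟨φ, hφ, hφe⟩ := hf.restrict hNT
  obtain ⟨φ', hφ', hφ'e⟩ := hF
  have hag : ∀ x : N, (x : Ω) ∈ R → φ' x = φ x := by
    intro x hx
    rw [hφe, hφ'e, he _ (hNT x.2)]
    show τ₁ (τ₂ x) = _
    have hx2 : τ₂ (x : Ω) = g₂ x := hτ₂e x (Subgroup.mem_sup_left hx)
    rw [hx2]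
    obtain ⟨r₁, hr₁, r₂, hr₂, e⟩ := mem_sup_commuting
      (P := R ⊓ A) (C := R ⊓ B) (fun x hx y hy => hp.comm x hx.2 y hy.2) (hRs hx)
    refine hτ₁e _ ?_
    rw [e, h₂.map_mul (Subgroup.mem_sup_left hr₁.1) (Subgroup.mem_sup_left hr₂.1),
      hg₂' r₁ hr₁.2]
    exact mul_mem (Subgroup.mem_sup_left hr₁.1) (Subgroup.mem_sup_right
      (mor_mem_closed hp.closedB h₂ (Subgroup.mem_sup_left hr₂.1) hr₂.2))
  obtain ⟨z, hzR, -, hz⟩ := maps_agree_on_centric hT hX hRN hR hφ' hφ hag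
  obtain ⟨z₁, hz₁, z₂, hz₂, hze⟩ := mem_sup_commuting
    (P := R ⊓ A) (C := R ⊓ B) (fun x hx y hy => hp.comm x hx.2 y hy.2) (hRs hzR)
  have hz₁N : z₁ ∈ N ⊔ B := Subgroup.mem_sup_left (hRN hz₁.1)
  have hNB : N ⊔ B ≤ T := sup_le hNT hp.closedB.1
  refine ((mor_conj (F := X) hNB (hR.1 hz₁.1)).comp hτ₁ fun x hx =>
    mul_mem (mul_mem hz₁N hx) ((N ⊔ B).inv_mem hz₁N)).congr fun x hx => ?_
  show g₁ x = τ₁ (z₁ * x * z₁⁻¹)
  have hBfix : ∀ b ∈ B, g₁ b = τ₁ (z₁ * b * z₁⁻¹) := fun b hb => by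
    rw [hg₁' b hb, hp.comm z₁ hz₁.2 b hb, mul_inv_cancel_right, t₁.2 b hb]
  have hc : Mor X (N ⊔ B) (τ₁ ∘ fun x => z₁ * x * z₁⁻¹) :=
    (mor_conj (F := X) hNB (hR.1 hz₁.1)).comp hτ₁ fun x hx =>
      mul_mem (mul_mem hz₁N hx) ((N ⊔ B).inv_mem hz₁N)
  refine mor_eq_on_sup (hg₁.restrict hNB) hc ?_ hBfix hx
  intro n hn
  obtain ⟨a, ha, b, hb, e⟩ := mem_sup_commuting hp.comm (hs.symm.le (hNT hn))
  have haN := normalizer_part hp hRs hn ha hb e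
  have h3 : f a = φ' (z * ⟨a, haN⟩ * z⁻¹) := (hφe ⟨a, haN⟩).symm.trans (hz ⟨a, haN⟩)
  rw [hφ'e, he a (hp.closedA.1 ha), hg₂' a ha] at h3
  have hc2 : z₂ * a = a * z₂ := (hp.comm a ha z₂ hz₂.2).symm
  have e2 : (z : Ω) * a * (z : Ω)⁻¹ = z₁ * a * z₁⁻¹ := by
    rw [hze, show z₁ * z₂ * a * (z₁ * z₂)⁻¹ = z₁ * (z₂ * a) * z₂⁻¹ * z₁⁻¹ by group, hc2]
    group
  have h4 : g₁ a = τ₁ (z₁ * a * z₁⁻¹) := by
    rw [h3]
    show τ₁ (τ₂ ((z : Ω) * a * (z : Ω)⁻¹)) = _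
    rw [e2, t₂.2 _ (mul_mem (mul_mem hz₁.2 ha) (A.inv_mem hz₁.2))]
  show g₁ n = τ₁ (z₁ * n * z₁⁻¹)
  have haT := hp.closedA.1 ha
  have hbT := hp.closedB.1 hb
  rw [e, hg₁.map_mul haT hbT, h4, hBfix b hb]
  exact (hc.map_mul (Subgroup.mem_sup_left haN) (Subgroup.mem_sup_right hb)).symm

/-- The climb from a split centric subgroup. -/
theorem split_climb [Finite T] (hT : IsPGroup p T) {Y : Cfsg.FusionSystem U}
    {X : Cfsg.FusionSystem T} (hX : X.IsSaturated p) (hTc : Y.StronglyClosed T) {A B : Subgroup Ω}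
    (hp : Pair X A B) (hs : A ⊔ B = T) {f g₁ g₂ : Ω → Ω} (hf : Mor X T f)
    (hg₁ : Mor Y T g₁) (hg₁' : ∀ b ∈ B, g₁ b = b) (hg₂ : Mor Y T g₂)
    (hg₂' : ∀ a ∈ A, g₂ a = a) (he : ∀ x ∈ T, f x = g₁ (g₂ x)) (he' : ∀ x ∈ T, f x = g₂ (g₁ x))
    {R : Subgroup Ω} (hR : X.IsCentric R) (hRs : R ≤ (R ⊓ A) ⊔ (R ⊓ B))
    (h₁ : Mor X (R ⊔ B) g₁) (h₂ : Mor X (R ⊔ A) g₂) :
    Mor X T g₁ ∧ Mor X T g₂ := by
  induction hn : Nat.card T - Nat.card R using Nat.strong_induction_on generalizing R with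
  | _ n ih =>
  by_cases htop : R = T
  · subst htop
    exact ⟨h₁.restrict le_sup_left, h₂.restrict le_sup_left⟩
  obtain ⟨g₀, hg₀, hg₀R⟩ := Fusion.Alperin.exists_normalizing_not_mem hT hR.1 htop
  have hNT : normalizerIn T R ≤ T := normalizerIn_le R
  have hRN : R ≤ normalizerIn T R := le_normalizerIn hR.1
  have hlt := Fusion.Alperin.card_lt_of_le_of_mem hNT hRN hg₀ hg₀R
  refine ih _ ?_ (isCentric_of_le hR hRN hNT) (fun n' hn' => ?_)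
    (climb_half hT hX hTc hp hs hf hg₁ hg₁' hg₂ hg₂' he hR hRs h₁ h₂)
    (climb_half hT hX hTc hp.symm ((sup_comm _ _).trans hs) hf hg₂ hg₂' hg₁ hg₁' he' hR
      (sup_comm (R ⊓ A) (R ⊓ B) ▸ hRs) h₂ h₁) rfl
  · have := Subgroup.card_le_of_le hNT
    omega
  · obtain ⟨a, ha, b, hb, e⟩ := mem_sup_commuting hp.comm (hs.symm.le (hNT hn'))
    have haN := normalizer_part hp hRs hn' ha hb e
    have hbN : b ∈ normalizerIn T R := by
      rw [show b = a⁻¹ * n' by rw [e, inv_mul_cancel_left]]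
      exact mul_mem ((normalizerIn T R).inv_mem haN) hn'
    exact e ▸ Subgroup.mul_mem_sup ⟨haN, ha⟩ ⟨hbN, hb⟩

/-- A stable normal subsystem of a split system is split. -/
theorem split_step (hU : IsPGroup p U) {Y : Cfsg.FusionSystem U} {X : Cfsg.FusionSystem T}
    (hY : Split S₁ S₂ Y) (hXY : X.IsWeaklyNormalIn Y p) (hst : Stable p X) : Split S₁ S₂ X := by
  obtain ⟨hXs, -, hinv⟩ := hXY
  have hTU : T ≤ U := hinv.2.1.1
  have : Finite T := finite_of_le hTU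
  have hT := hU.to_le hTU
  have hamb := hY.amb.sub hinv.1
  have hp := hamb.pair
  have hs := split_sup hY hinv hst.1
  refine ⟨hamb, hs, fun P f hf => ?_⟩
  set A := T ⊓ S₁ with hA
  set B := T ⊓ S₂ with hB
  set D := decSys hp hs with hD
  suffices h : X.IsSubsystemOf D from isDec_of_mem hp hs (mor_mono h hf)
  have hgen : ∀ Q : Subgroup Ω, X.IsCentric Q → PPrimeExist.pGen p X Q ≤ D.autGroup Q := by
    intro P hP
    unfold PPrimeExist.pGen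
    rw [Subgroup.map_le_iff_le_comap, Subgroup.closure_le]
    rintro σ ⟨k, hk⟩
    obtain ⟨Q, ⟨φ, hφ, hr⟩, hQ⟩ := exists_fullyNormalized X hP.1
    obtain ⟨hQa, -⟩ := fullyNormalized_props hT hXs hQ
    obtain ⟨ψ, hψ, hψr, hψφ, -⟩ := Fus.exists_inv X hφ hr
    set τ := MulAut.congr (isoOf hφ hr) (σ : MulAut P) with hτ
    have hτE : τ ∈ X.autGroup Q := congr_mem_autGroup hφ hr σ.2
    have hτp : IsPGroup p (Subgroup.zpowers τ) := by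
      refine IsPGroup.of_card (n := k) ?_
      rw [Nat.card_zpowers, hτ, MulEquiv.orderOf_eq, Subgroup.orderOf_coe, hk]
    obtain ⟨a, ha, hax⟩ := exists_conj_into_autS hQa (Subgroup.zpowers_le.2 hτE) hτp
    have h1 : a * τ * a⁻¹ ∈ D.autGroup Q :=
      autInducedBy_le_autGroup D hQ.1 (hax τ (Subgroup.mem_zpowers τ))
    have ha' := (mem_autGroup_iff X hQ.1).1 ((X.autGroup Q).inv_mem ha)
    have h2 := dec_congr hY hinv hp hs hQ.1 (hinv.1 Q ha') (range_subtype_comp _) h1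
    rw [Fusion.Alperin.congr_subtype_comp, inv_inv] at h2
    have h3 : τ ∈ D.autGroup Q := by simpa [mul_assoc] using h2
    have h4 := dec_congr hY hinv hp hs hQ.1 (hinv.1 Q hψ) hψr h3
    have e : MulAut.congr (isoOf (hinv.1 Q hψ) hψr) τ = (σ : MulAut P) := by
      refine MulEquiv.ext fun x => ?_
      obtain ⟨q, rfl⟩ := (isoOf (hinv.1 Q hψ) hψr).surjective x
      obtain ⟨y, rfl⟩ := (isoOf hφ hr).surjective q
      have hy : ∀ z : P, isoOf (hinv.1 Q hψ) hψr (isoOf hφ hr z) = z := fun z =>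
        Subtype.ext (hψφ z (isoOf hφ hr z).2)
      show isoOf (hinv.1 Q hψ) hψr (τ ((isoOf (hinv.1 Q hψ) hψr).symm (isoOf (hinv.1 Q hψ) hψr
        (isoOf hφ hr y)))) = (σ : MulAut P) (isoOf (hinv.1 Q hψ) hψr (isoOf hφ hr y))
      rw [MulEquiv.symm_apply_apply, hy y, hτ]
      show isoOf (hinv.1 Q hψ) hψr (isoOf hφ hr ((σ : MulAut P) ((isoOf hφ hr).symm
        (isoOf hφ hr y)))) = _
      rw [MulEquiv.symm_apply_apply, hy]
    rw [e] at h4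
    exact h4
  have hres : (PPrimeExist.residual p X).IsSubsystemOf D := by
    intro P φ hφ
    refine hφ D ⟨hgen, (Subgroup.closure_le _).2 ?_⟩
    rintro β ⟨hβ, R, hR, hb⟩
    have hbD : autHom β hR.1 ∈ D.Hom R := PPrimeExist.base_le p X hgen R hb
    obtain ⟨f₁, f₂, k₁, k₂, hk⟩ :=
      isDec_of_mem hp hs (mor_of_hom hbD fun x => autHom_apply β hR.1 x)
    have hf : Mor X T (autFun β) := mor_of_hom ((mem_autGroup_iff X le_rfl).1 hβ)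
      fun x => (autFun_apply β x.2).symm
    obtain ⟨g₁, g₂, l₁, l₂, hl⟩ := hY.dec T _ (mor_mono hinv.1 hf)
    have hpY : Pair Y A B := ⟨⟨inf_le_left.trans hTU, fun M hM ψ hψ x =>
        ⟨hinv.2.1.2 M (hM.trans inf_le_left) ψ hψ x,
          (hY.amb.closed₁.2 M (hM.trans (inf_le_inf_right S₁ hTU)) ψ hψ x).2⟩⟩,
      ⟨inf_le_left.trans hTU, fun M hM ψ hψ x => ⟨hinv.2.1.2 M (hM.trans inf_le_left) ψ hψ x,
          (hY.amb.closed₂.2 M (hM.trans (inf_le_inf_right S₂ hTU)) ψ hψ x).2⟩⟩, hp.comm⟩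
    have hg₁ : Mor Y T g₁ := l₁.1.restrict le_sup_left
    have hg₂ : Mor Y T g₂ := l₂.1.restrict le_sup_left
    have hg₁' : ∀ b ∈ B, g₁ b = b := fun b hb => l₁.2 b ⟨hTU hb.1, hb.2⟩
    have hg₂' : ∀ a ∈ A, g₂ a = a := fun a ha => l₂.2 a ⟨hTU ha.1, ha.2⟩
    have m₁ : Half Y B T g₁ := ⟨hg₁.restrict (sup_le le_rfl inf_le_left), hg₁'⟩
    have m₂ : Half Y A T g₂ := ⟨hg₂.restrict (sup_le le_rfl inf_le_left), hg₂'⟩
    have hl' : ∀ x ∈ T, autFun β x = g₂ (g₁ x) := fun x hx =>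
      (hl x hx).trans (hpY.half_comm hs.ge m₁ m₂ hx)
    -- the split hull of `R`
    set R' := (A ⊓ (R ⊔ B)) ⊔ (B ⊓ (R ⊔ A)) with hR'
    have hR'T : R' ≤ T := sup_le (inf_le_left.trans inf_le_left) (inf_le_left.trans inf_le_left)
    have hRR' : R ≤ R' := fun r hr => by
      obtain ⟨a, ha, b, hb, rfl⟩ := mem_sup_commuting hp.comm (hs.symm.le (hR.1 hr))
      exact Subgroup.mul_mem_sup ⟨ha, parts_mem hb hr⟩ ⟨hb, parts_mem' ha hr⟩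
    have hR'c := isCentric_of_le hR hRR' hR'T
    have hsplit : R' ≤ (R' ⊓ A) ⊔ (R' ⊓ B) := sup_le_sup
      (le_inf le_sup_left inf_le_left) (le_inf le_sup_right inf_le_left)
    have hRB : R' ⊔ B ≤ R ⊔ B :=
      sup_le (sup_le inf_le_right (inf_le_left.trans le_sup_right)) le_sup_right
    have hRA : R' ⊔ A ≤ R ⊔ A :=
      sup_le (sup_le (inf_le_left.trans le_sup_right) inf_le_right) le_sup_right
    have n₁ : Half X B R' f₁ := ⟨k₁.1.restrict hRB, k₁.2⟩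
    have n₂ : Half X A R' f₂ := ⟨k₂.1.restrict hRA, k₂.2⟩
    have hmem : ∀ x ∈ R', f₂ x ∈ R' ⊔ B := fun x hx => by
      obtain ⟨a, ha, b, hb, rfl⟩ := mem_sup_commuting hp.comm (hs.symm.le (hR'T hx))
      rw [n₂.1.map_mul (Subgroup.mem_sup_right ha) (parts_mem' ha hx), n₂.2 a ha]
      exact mul_mem (parts_mem hb hx)
        (Subgroup.mem_sup_right (mor_mem_closed hp.closedB n₂.1 (parts_mem' ha hx) hb))
    have hF : Mor X R' (f₁ ∘ f₂) := (n₂.1.restrict le_sup_left).comp n₁.1 hmem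
    have hdF : IsDec X A B R' (f₁ ∘ f₂) := ⟨f₁, f₂, n₁, n₂, fun _ _ => rfl⟩
    obtain ⟨χ, hχ, hχe⟩ := hf.restrict hR'T
    obtain ⟨χ', hχ', hχ'e⟩ := hF
    obtain ⟨z, hzR, -, hz⟩ := maps_agree_on_centric hT hXs hRR' hR hχ' hχ fun x hx => by
      rw [hχe, hχ'e]
      exact (hk x hx).symm
    have hd : IsDec X A B R' (autFun β) := by
      have hzT : (z : Ω) ∈ A ⊔ B := hs.symm.le (hR'T z.2)
      refine ((IsDec.conj hp (hs.symm ▸ hR'T) hzT).comp hp (hs.symm ▸ hR'T) hdF fun x hx =>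
        mul_mem (mul_mem z.2 hx) (R'.inv_mem z.2)).congr fun x hx => ?_
      show autFun β x = f₁ (f₂ ((z : Ω) * x * (z : Ω)⁻¹))
      rw [← hχe ⟨x, hx⟩, hz ⟨x, hx⟩, hχ'e]
      rfl
    obtain ⟨e₁, e₂, q₁, q₂, hq⟩ := hd
    have hA1 : ∀ a ∈ R' ⊓ A, g₁ a = e₁ a := fun a ha => by
      have h1 := hl a (hR'T ha.1)
      rw [hq a ha.1, hg₂' a ha.2, q₂.2 a ha.2] at h1
      exact h1.symm
    have hB1 : ∀ b ∈ R' ⊓ B, g₂ b = e₂ b := fun b hb => by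
      have h1 := hl' b (hR'T hb.1)
      rw [hq b hb.1, hp.half_comm (hs.symm ▸ hR'T) q₁ q₂ hb.1, hg₁' b hb.2, q₁.2 b hb.2] at h1
      exact h1.symm
    have c₁ : Mor X (R' ⊔ B) g₁ := q₁.1.congr fun x hx => by
      refine mor_eq_on_sup (M := R' ⊓ A) (N := B) (hg₁.restrict ?_) (q₁.1.restrict ?_) hA1
        (fun b hb => (hg₁' b hb).trans (q₁.2 b hb).symm) ?_
      · exact sup_le (inf_le_left.trans hR'T) inf_le_left
      · exact sup_le_sup_right inf_le_left B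
      · exact (sup_le (hsplit.trans (sup_le_sup_left inf_le_right _)) le_sup_right :
          R' ⊔ B ≤ (R' ⊓ A) ⊔ B) hx
    have c₂ : Mor X (R' ⊔ A) g₂ := q₂.1.congr fun x hx => by
      refine mor_eq_on_sup (M := R' ⊓ B) (N := A) (hg₂.restrict ?_) (q₂.1.restrict ?_) hB1
        (fun b hb => (hg₂' b hb).trans (q₂.2 b hb).symm) ?_
      · exact sup_le (inf_le_left.trans hR'T) inf_le_left
      · exact sup_le_sup_right inf_le_left A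
      · exact (sup_le (hsplit.trans (sup_le (inf_le_right.trans le_sup_right) le_sup_left))
          le_sup_right : R' ⊔ A ≤ (R' ⊓ B) ⊔ A) hx
    obtain ⟨w₁, w₂⟩ :=
      split_climb hT hXs hinv.2.1 hp hs hf hg₁ hg₁' hg₂ hg₂' hl hl' hR'c hsplit c₁ c₂
    have hdec : IsDec X A B T (autFun β) := ⟨g₁, g₂, ⟨w₁.restrict (sup_le le_rfl inf_le_left),
      hg₁'⟩, ⟨w₂.restrict (sup_le le_rfl inf_le_left), hg₂'⟩, hl⟩
    exact mem_autGroup_of_mor (mem_of_isDec hp hs hf hdec) fun x => (autFun_apply β x.2).symm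
  have hr' := PPrimeExist.isPPrimeResidual_residual (F := X) hT hXs
  exact fun P φ hφ => hres P (hst.2.2.2 _ hr'.1 hr'.2.1 P hφ)

end CfsgLib.Comp89
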